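import Groth.Agent.EtAcyc.K158.GlueOne
import Groth.Agent.EtAcyc.K157.ClDef
import Groth.Agent.EtAcyc.K439.FinProd

/-!
# Clopen subsets of schemes over `T` and their pull-backs along a fixed `f : X ⟶ T`

`CI f α`, `CS f α` for `α : A ⟶ T`: clopen subsets of `A` are detected on `A ×_T X`; clopen subsets of `A ×_T X` extend
to `A`. Stability under surjections, finite étale morphisms, retracts; topological descent (`CS.desc`); consequences for
morphisms to finite étale covers (`CI.uniq`, `exists_ext`).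
-/

set_option autoImplicit false
universe u

open CategoryTheory CategoryTheory.Limits AlgebraicGeometry Opposite

namespace K158.ClCalc

open K157.ClDef K158.GlueOne K548.LocConn

variable {X T A A' : Scheme.{u}} {f : X ⟶ T} {α : A ⟶ T}

/-- clopen subsets of `A` are detected on `A ×_T X` -/
def CI (f : X ⟶ T) (α : A ⟶ T) : Prop := CInj (pullback.fst α f)

/-- clopen subsets of `A ×_T X` extend to `A` -/
def CS (f : X ⟶ T) (α : A ⟶ T) : Prop := CSur (pullback.fst α f)

/-- the map of fibre products -/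
noncomputable def km (f : X ⟶ T) {α : A ⟶ T} {α' : A' ⟶ T} (u : A' ⟶ A) (h : u ≫ α = α') :
    pullback α' f ⟶ pullback α f :=
  pullback.lift (pullback.fst _ _ ≫ u) (pullback.snd _ _) (by rw [Category.assoc, h, pullback.condition])

theorem km_fst {α' : A' ⟶ T} (u : A' ⟶ A) (h : u ≫ α = α') :
    km f u h ≫ pullback.fst α f = pullback.fst α' f ≫ u := pullback.lift_fst _ _ _

theorem km_snd {α' : A' ⟶ T} (u : A' ⟶ A) (h : u ≫ α = α') :
    km f u h ≫ pullback.snd α f = pullback.snd α' f := pullback.lift_snd _ _ _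

theorem km_comp {A'' : Scheme.{u}} {α' : A' ⟶ T} {α'' : A'' ⟶ T} (u : A' ⟶ A) (h : u ≫ α = α') (u' : A'' ⟶ A')
    (h' : u' ≫ α' = α'') : km f u' h' ≫ km f u h = km f (u' ≫ u) (by rw [Category.assoc, h, h']) := by
  apply pullback.hom_ext
  · rw [Category.assoc, km_fst, ← Category.assoc, km_fst, Category.assoc, km_fst]
  · rw [Category.assoc, km_snd, km_snd, km_snd]

theorem km_congr {α' : A' ⟶ T} {u v : A' ⟶ A} (e : u = v) (h : u ≫ α = α') : km f u h = km f v (e ▸ h) := by
  subst e
  rfl

/-- points of fibre products -/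
theorem exists_pt {P X Y Z : Scheme.{u}} {a : P ⟶ X} {b : P ⟶ Y} {x : X ⟶ Z} {y : Y ⟶ Z} (h : IsPullback a b x y)
    (p : X) (q : Y) (e : x p = y q) : ∃ w, a w = p ∧ b w = q := by
  obtain ⟨w, h1, h2⟩ := Scheme.Pullback.exists_preimage_pullback (f := x) (g := y) p q e
  refine ⟨h.isoPullback.inv w, ?_, ?_⟩
  · rw [← Scheme.Hom.comp_apply, h.isoPullback_inv_fst, h1]
  · rw [← Scheme.Hom.comp_apply, h.isoPullback_inv_snd, h2]

theorem fst_km_apply {α' : A' ⟶ T} (u : A' ⟶ A) (h : u ≫ α = α') (z : ↥(pullback α' f)) :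
    pullback.fst α f (km f u h z) = u (pullback.fst α' f z) := by
  rw [← Scheme.Hom.comp_apply, km_fst, Scheme.Hom.comp_apply]

theorem isPullback_km {α' : A' ⟶ T} (u : A' ⟶ A) (h : u ≫ α = α') :
    IsPullback (km f u h) (pullback.fst α' f) (pullback.fst α f) u := by
  subst h
  refine IsPullback.of_right (h₁₂ := pullback.snd α f) (v₁₃ := f) (h₂₂ := α) ?_ (km_fst u rfl)
    (IsPullback.of_hasPullback α f).flip
  rw [km_snd]
  exact (IsPullback.of_hasPullback (u ≫ α) f).flip

theorem CI.eq (h : CI f α) {E E' : Set A} (hE : IsClopen E) (hE' : IsClopen E')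
    (he : ∀ z, pullback.fst α f z ∈ E ↔ pullback.fst α f z ∈ E') : E = E' :=
  K439.ClFin.eq_of_preimage h hE hE' (Set.ext he)

theorem CI.of_surjective {α' : A' ⟶ T} (h : CI f α') (u : A' ⟶ A) [hs : Surjective u] (e : u ≫ α = α') : CI f α := by
  intro E hE he
  have h1 : u ⁻¹' E = ∅ := h _ (hE.preimage u.continuous) (by
    rw [Set.eq_empty_iff_forall_notMem]
    intro z hz
    have h2 : km f u e z ∈ pullback.fst α f ⁻¹' E := by
      change pullback.fst α f (km f u e z) ∈ E
      rw [fst_km_apply]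
      exact hz
    rw [he] at h2
    exact h2)
  rw [Set.eq_empty_iff_forall_notMem]
  intro x hx
  obtain ⟨y, rfl⟩ := hs.surj x
  have : y ∈ u ⁻¹' E := hx
  rw [h1] at this
  exact this

theorem CI.comp {α' : A' ⟶ T} (h : CI f α) (u : A' ⟶ A) [IsFinite u] [Etale u] (e : u ≫ α = α') : CI f α' := by
  intro D hD hDe
  have h1 : IsClopen (u '' D) := ⟨u.isClosedMap D hD.1, u.isOpenMap D hD.2⟩
  have h2 := h _ h1 (by
    rw [Set.eq_empty_iff_forall_notMem]
    rintro z ⟨d, hd, hdz⟩
    obtain ⟨w, hw1, hw2⟩ := exists_pt (isPullback_km (f := f) u e) z d hdz.symm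
    have : w ∈ pullback.fst α' f ⁻¹' D := by
      change pullback.fst α' f w ∈ D
      rw [hw2]
      exact hd
    rw [hDe] at this
    exact this)
  exact Set.image_eq_empty.1 h2

theorem CS.of_retract {α' : A' ⟶ T} (h : CS f α') (s : A ⟶ A') (r : A' ⟶ A) (hsr : s ≫ r = 𝟙 A) (e : s ≫ α' = α)
    (e' : r ≫ α = α') : CS f α := by
  intro D hD
  obtain ⟨E, hE, h1⟩ := h (km f r e' ⁻¹' D) (hD.preimage (km f r e').continuous)
  refine ⟨s ⁻¹' E, hE.preimage s.continuous, ?_⟩
  ext z
  have h2 : km f s e z ∈ pullback.fst α' f ⁻¹' E ↔ km f s e z ∈ km f r e' ⁻¹' D := by rw [h1]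
  have h3 : km f r e' (km f s e z) = z := by
    rw [← Scheme.Hom.comp_apply]
    have : km f s e ≫ km f r e' = 𝟙 _ := by
      apply pullback.hom_ext
      · rw [Category.assoc, km_fst, ← Category.assoc, km_fst, Category.assoc, hsr, Category.comp_id, Category.id_comp]
      · rw [Category.assoc, km_snd, km_snd, Category.id_comp]
    rw [this]
    rfl
  change s (pullback.fst α f z) ∈ E ↔ z ∈ D
  rw [← fst_km_apply (f := f) s e]
  refine h2.trans ?_
  change km f r e' (km f s e z) ∈ D ↔ _
  rw [h3]

theorem CS.of_iso {α' : A' ⟶ T} (h : CS f α') (s : A ≅ A') (e : s.hom ≫ α' = α) : CS f α :=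
  h.of_retract s.hom s.inv s.hom_inv_id e (by rw [← e, Iso.inv_hom_id_assoc])

/-- **Topological descent.** -/
theorem CS.desc (u : A' ⟶ A) (hu : Topology.IsQuotientMap u) [hs : Surjective u]
    (h1 : CS f (u ≫ α)) (h2 : CI f (pullback.fst u u ≫ u ≫ α)) : CS f α := by
  intro D hD
  let k := km f (α := α) u rfl
  have hk : IsPullback k (pullback.fst (u ≫ α) f) (pullback.fst α f) u := isPullback_km u rfl
  have hks : Surjective k := MorphismProperty.of_isPullback (P := @Surjective) hk.flip hs
  obtain ⟨E', hE', h3⟩ := h1 (k ⁻¹' D) (hD.preimage k.continuous)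
  have h3' : ∀ z, pullback.fst (u ≫ α) f z ∈ E' ↔ k z ∈ D := fun z => Set.ext_iff.1 h3 z
  have e1 : pullback.fst u u ≫ u ≫ α = pullback.snd u u ≫ u ≫ α := by rw [pullback.condition_assoc]
  have key : (pullback.fst u u) ⁻¹' E' = (pullback.snd u u) ⁻¹' E' := by
    refine h2.eq (hE'.preimage (pullback.fst u u).continuous) (hE'.preimage (pullback.snd u u).continuous) fun z => ?_
    have a1 := h3' (km f (pullback.fst u u) rfl z)
    have a2 := h3' (km f (pullback.snd u u) e1.symm z)
    rw [fst_km_apply] at a1 a2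
    refine a1.trans (Iff.trans ?_ a2.symm)
    have : km f (pullback.fst u u) rfl ≫ k = km f (pullback.snd u u) e1.symm ≫ k := by
      rw [km_comp, km_comp]
      exact km_congr pullback.condition _
    rw [← Scheme.Hom.comp_apply, this, Scheme.Hom.comp_apply]
  have hsat : u ⁻¹' (u '' E') = E' := by
    refine Set.Subset.antisymm ?_ (Set.subset_preimage_image _ _)
    rintro x ⟨y, hy, hxy⟩
    obtain ⟨w, hw1, hw2⟩ := Scheme.Pullback.exists_preimage_pullback (f := u) (g := u) y x hxy
    have h4 : w ∈ pullback.fst u u ⁻¹' E' := by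
      change pullback.fst u u w ∈ E'
      rw [hw1]
      exact hy
    rw [key] at h4
    have h5 : pullback.snd u u w ∈ E' := h4
    rwa [hw2] at h5
  refine ⟨u '' E', ?_, ?_⟩
  · constructor
    · rw [← hu.isClosed_preimage, hsat]
      exact hE'.1
    · rw [← hu.isOpen_preimage, hsat]
      exact hE'.2
  · ext z
    obtain ⟨w, rfl⟩ := hks.surj z
    rw [← h3' w, ← Set.ext_iff.1 hsat]
    change pullback.fst α f (k w) ∈ u '' E' ↔ u _ ∈ u '' E'
    rw [fst_km_apply]

theorem CI.clp (h : CI f α) (h' : CS f α) : Clp f α := by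
  refine ⟨fun C hC => ?_, fun D hD hy => ?_⟩
  · obtain ⟨E, hE, e⟩ := h' C hC
    exact ⟨E, hE, e.symm⟩
  · exact h.eq hD isClopen_univ fun z => ⟨fun _ => trivial, fun _ => hy z⟩

/-- uniqueness of extensions -/
theorem CI.uniq (hc : CI f α) {E Y : Scheme.{u}} (h : E ⟶ Y) [IsFinite h] [Etale h] : Uniq f α h := by
  intro t t' h1 h2
  let d : A ⟶ pullback h h := pullback.lift t t' h1
  let i : pullback d (pullback.diagonal h) ⟶ A := pullback.fst _ _
  have i1 : IsOpenImmersion i := inferInstance
  have i2 : IsClosedImmersion i := inferInstance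
  have h3 : Set.range i = Set.univ := by
    refine hc.eq ⟨i.isClosedEmbedding.isClosed_range, i.isOpenEmbedding.isOpen_range⟩ isClopen_univ fun y =>
      ⟨fun _ => trivial, fun _ => ?_⟩
    have h4 : pullback.fst α f ≫ d = (pullback.fst α f ≫ t) ≫ pullback.diagonal h := by
      apply pullback.hom_ext
      · rw [Category.assoc, Category.assoc, pullback.lift_fst, pullback.diagonal_fst,
          Category.comp_id]
      · rw [Category.assoc, Category.assoc, pullback.lift_snd, pullback.diagonal_snd,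
          Category.comp_id, h2]
    let k : pullback α f ⟶ pullback d (pullback.diagonal h) := pullback.lift _ _ h4
    have hk : k ≫ i = pullback.fst α f := pullback.lift_fst _ _ _
    exact ⟨k y, by rw [← Scheme.Hom.comp_apply, hk]⟩
  have i3 : Surjective i := ⟨fun a => by
    have : a ∈ Set.range i := by rw [h3]; trivial
    exact this⟩
  have i4 : IsIso i := IsOpenImmersion.isIso i
  have h5 : i ≫ d = pullback.snd _ _ ≫ pullback.diagonal h := pullback.condition
  have h6 : i ≫ t = pullback.snd d (pullback.diagonal h) := by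
    have := congrArg (fun k => k ≫ pullback.fst h h) h5
    simpa only [Category.assoc, d, pullback.lift_fst, pullback.diagonal_fst, Category.comp_id] using this
  have h7 : i ≫ t' = pullback.snd d (pullback.diagonal h) := by
    have := congrArg (fun k => k ≫ pullback.snd h h) h5
    simpa only [Category.assoc, d, pullback.lift_snd, pullback.diagonal_snd, Category.comp_id] using this
  rw [← cancel_epi i, h6, h7]

/-- existence of extensions -/
theorem exists_ext {E Y : Scheme.{u}} (h : E ⟶ Y) [IsFinite h] [Etale h] (y : A ⟶ Y) (h1 : CI f α) (h2 : CS f α)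
    (h3 : CS f (pullback.snd h y ≫ α)) : Ext f α h y := by
  intro s hs
  exact (h1.clp h2).exists_ext h y s hs ((h1.comp (pullback.snd h y) rfl).clp h3)

end K158.ClCalc
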