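import Groth.Agent.EtAcyc.K158.BCOne
import Groth.Agent.EtAcyc.K157.ClDef

/-!
# Clopen subsets, locally constant functions and families of germs of a constant sheaf

* `cBij_iff`: pull-back of clopen subsets is bijective iff pull-back of locally constant two-valued functions is.
* `sbf_const`: then the families of germs of the constant sheaf with two values correspond.
-/

set_option autoImplicit false
universe u
open CategoryTheory CategoryTheory.Limits AlgebraicGeometry Opposite

namespace K158.ConstOne

open Groth.Agent EtDesc Groth.Agent.Etbc.H184.FamSh Groth.Agent.Etbc.H230.ConstSets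
open K158.BCOne K157.ClDef

/-- two values -/
abbrev Bo : Type u := ULift.{u} Bool

variable {Z Z' : Scheme.{u}}

/-- pull-back of locally constant functions -/
noncomputable abbrev lcPull (I : Type u) (p : Z' ⟶ Z) : LocallyConstant Z I → LocallyConstant Z' I :=
  LocallyConstant.comap (⟨p, p.continuous⟩ : C(Z', Z))

theorem lcPull_apply {I : Type u} (p : Z' ⟶ Z) (f : LocallyConstant Z I) (z : Z') :
    lcPull I p f z = f (p z) := rfl

open Classical in
/-- the locally constant function of a clopen subset -/
noncomputable def ofClopen {X : Type*} [TopologicalSpace X] (E : Set X) (hE : IsClopen E) :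
    LocallyConstant X Bo.{u} :=
  (LocallyConstant.ofIsClopen (U := E) hE).map fun i => ⟨i = 0⟩

theorem ofClopen_eq {X : Type*} [TopologicalSpace X] {E : Set X} (hE : IsClopen E) (x : X) :
    ofClopen.{u} E hE x = ⟨true⟩ ↔ x ∈ E := by
  by_cases hx : x ∈ E
  · simp [ofClopen, LocallyConstant.ofIsClopen, hx]
  · simp [ofClopen, LocallyConstant.ofIsClopen, hx]

theorem isClopen_fiber {X : Type*} [TopologicalSpace X] (f : LocallyConstant X Bo.{u}) :
    IsClopen {x | f x = ⟨true⟩} :=
  f.isLocallyConstant.isClopen_fiber _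

theorem bo_eq {a b : Bo.{u}} (h : a = ⟨true⟩ ↔ b = ⟨true⟩) : a = b := by
  obtain ⟨a⟩ := a
  obtain ⟨b⟩ := b
  cases a <;> cases b <;> simp_all

theorem cInj_iff (p : Z' ⟶ Z) : CInj p ↔ ∀ E E' : Set Z, IsClopen E → IsClopen E' → p ⁻¹' E = p ⁻¹' E' → E = E' := by
  constructor
  · intro h E E' hE hE' e
    have h1 : E \ E' = ∅ := h _ (hE.diff hE') (by rw [Set.preimage_diff, e, Set.diff_self])
    have h2 : E' \ E = ∅ := h _ (hE'.diff hE) (by rw [Set.preimage_diff, e, Set.diff_self])
    exact Set.Subset.antisymm (Set.diff_eq_empty.1 h1) (Set.diff_eq_empty.1 h2)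
  · intro h E hE e
    exact h E ∅ hE isClopen_empty (by rw [e, Set.preimage_empty])

theorem cBij_iff (p : Z' ⟶ Z) : CBij p ↔ Function.Bijective (lcPull Bo.{u} p) := by
  constructor
  · rintro ⟨h1, h2⟩
    rw [cInj_iff] at h1
    constructor
    · intro f g e
      have h3 := h1 _ _ (isClopen_fiber f) (isClopen_fiber g) (by
        ext z
        have := DFunLike.congr_fun e z
        rw [lcPull_apply, lcPull_apply] at this
        simp only [Set.mem_preimage, Set.mem_setOf_eq, this])
      ext z
      have h4 := Set.ext_iff.1 h3 z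
      exact congrArg ULift.down (bo_eq h4)
    · intro f
      obtain ⟨E, hE, e⟩ := h2 _ (isClopen_fiber f)
      refine ⟨ofClopen E hE, ?_⟩
      ext z
      refine congrArg ULift.down (bo_eq ?_)
      rw [lcPull_apply, ofClopen_eq]
      exact Set.ext_iff.1 e z
  · rintro ⟨h1, h2⟩
    constructor
    · rw [cInj_iff]
      intro E E' hE hE' e
      have h3 : ofClopen.{u} E hE = ofClopen E' hE' := by
        apply h1
        ext z
        refine congrArg ULift.down (bo_eq ?_)
        rw [lcPull_apply, lcPull_apply, ofClopen_eq, ofClopen_eq]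
        exact Set.ext_iff.1 e z
      ext z
      rw [← ofClopen_eq.{u} hE, ← ofClopen_eq.{u} hE', h3]
    · intro E' hE'
      obtain ⟨f, hf⟩ := h2 (ofClopen E' hE')
      refine ⟨_, isClopen_fiber f, ?_⟩
      ext z
      rw [← ofClopen_eq.{u} hE', ← hf, lcPull_apply]
      rfl

/-- families of germs of a constant sheaf along a morphism inducing a bijection on locally constant functions -/
theorem sbf_const {I : Type u} {Y : Scheme.{u}} (p : Z' ⟶ Z) (q : Z ⟶ Y)
    (hb : Function.Bijective (lcPull I p)) : SBF (C Y I) p q := by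
  constructor
  · intro v hv
    obtain ⟨f, hf⟩ := hb.2 (famLC (toFam v hv))
    refine ⟨ofFam (ofLC q f), isLoc_ofFam _, ?_⟩
    ext Ω _ _ l ξ hl
    have h1 := val_eq' (toFam v hv) l ξ hl
    rw [← hf] at h1
    exact h1.symm
  · intro v w hv hw e
    have h1 : famLC (toFam v hv) = famLC (toFam w hw) := by
      apply hb.1
      ext z
      obtain ⟨Ω, _, _, l, rfl⟩ := Groth.Agent.Sga4A.EtStalk.exists_geomPoint Z' z
      apply cGerm_injective (l ≫ p ≫ q)
      have h2 := val_eq' (toFam v hv) (l ≫ p) (l ≫ p ≫ q) (Category.assoc _ _ _)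
      have h3 := val_eq' (toFam w hw) (l ≫ p) (l ≫ p ≫ q) (Category.assoc _ _ _)
      have h4 := Fam.congr_fun e l (ξ := l ≫ p ≫ q) rfl
      exact h2.symm.trans (h4.trans h3)
    ext Ω _ _ l ξ hl
    have h2 := val_eq' (toFam v hv) l ξ hl
    have h3 := val_eq' (toFam w hw) l ξ hl
    rw [h1] at h2
    exact h2.trans h3.symm

end K158.ConstOne
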