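import Groth.Agent.EtAcyc.K158.ClCalc
import Groth.Agent.EtAcyc.K557.PrinLoc
import Groth.Agent.Pi1.K868.BcDefEs

/-!
# Principal covers coming from a base, descent

`comes_of_desc`: `f : X ⟶ T`, `π : T' ⟶ T` of effective descent. A principal cover of `X` whose pull-back to `X ×_T T'`
comes from `T'` comes from `T`, if clopen subsets of principal covers of `T' ×_T T'` and of `T' ×_T T' ×_T T'` are
controlled by `f`.
-/

set_option autoImplicit false
universe u

open CategoryTheory CategoryTheory.Limits AlgebraicGeometry Opposite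

namespace K158.DescComes

open K158.ClCalc K158.GlueOne K548.DescE K868.Bc Groth.Agent.Pi1A.FEtAffine Groth.Agent.Pi1.H390.T1DD
  K439.ClFin

/-- **Gluing of finite étale covers.** -/
theorem exists_cover {X T T' X' : Scheme.{u}} {f : X ⟶ T} {π : T' ⟶ T} {π' : X' ⟶ X}
    {f' : X' ⟶ T'} (hP : IsPullback π' f' f π) [QuasiCompact π] (hπ : Subtr.UnivSSubtrusive π)
    (V : FEt.Cat T') (Z : FEt.Cat X) (e : (FEt.restrict f').obj V ≅ (FEt.restrict π').obj Z)
    (H1 : Uniq f (V.hom ≫ π) V.hom)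
    (H2 : Ext f (pullback.snd (V.hom ≫ π) π ≫ π) V.hom (pullback.snd (V.hom ≫ π) π))
    (H3 : Uniq f (pullback.snd (pullback.snd (V.hom ≫ π) π ≫ π) π ≫ π) V.hom) :
    ∃ W : FEt.Cat T, Nonempty ((FEt.restrict f).obj W ≅ Z) ∧
      Nonempty ((FEt.restrict π).obj W ≅ V) := by
  have i1 : IsFinite V.hom := V.prop.1
  have i2 : Etale V.hom := V.prop.2
  have i3 : Etale Z.hom := Z.prop.2
  have h1 : IsPullback (proj f' V) (((FEt.restrict f').obj V).hom ≫ π') (V.hom ≫ π) f :=
    (Groth.Agent.Pi1A.FEtAffine.isPullback f' V).paste_vert hP.flip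
  let ι := h1.isoPullback
  have e1 : ι.hom ≫ pullback.fst _ _ = proj f' V := h1.isoPullback_hom_fst
  have e2 : ι.hom ≫ pullback.snd _ _ = ((FEt.restrict f').obj V).hom ≫ π' := h1.isoPullback_hom_snd
  have e3 : ι.inv ≫ proj f' V = pullback.fst _ _ := h1.isoPullback_inv_fst
  have e4 : ι.inv ≫ ((FEt.restrict f').obj V).hom ≫ π' = pullback.snd _ _ := h1.isoPullback_inv_snd
  have h2 : IsPullback (cc V Z e) (((FEt.restrict f').obj V).hom ≫ f') (Z.hom ≫ f) π :=
    (isPullback_cc V Z e).paste_vert hP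
  have h3 : IsPullback (ι.inv ≫ cc V Z e) (pullback.fst (V.hom ≫ π) f ≫ V.hom) (Z.hom ≫ f) π := by
    refine IsPullback.of_iso h2 ι (Iso.refl _) (Iso.refl _) (Iso.refl _) ?_ ?_ ?_ ?_
    · rw [Iso.refl_hom, Category.comp_id, Iso.hom_inv_id_assoc]
    · rw [Iso.refl_hom, Category.comp_id, reassoc_of% e1,
        (Groth.Agent.Pi1A.FEtAffine.isPullback f' V).w]
    · simp
    · simp
  have G : Glue f π Z.hom V.hom (ι.inv ≫ cc V Z e) := ⟨h3, by
    rw [Category.assoc, cc_hom, e4]⟩
  obtain ⟨U, υ, hu1, hu2, ψ, hψ, g, hg, hψe, hgp⟩ := exists_descent G H1 H2 H3 hπ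
  let eg : pullback υ f ≅ Z.left := asIso g
  let eψ : pullback υ π ≅ V.left := pullbackSymmetry υ π ≪≫ asIso ψ
  have hψ' : eψ.hom ≫ V.hom = pullback.snd υ π := by
    rw [Iso.trans_hom, asIso_hom, Category.assoc, hψe]
    exact pullbackSymmetry_hom_comp_fst υ π
  exact ⟨MorphismProperty.Over.mk ⊤ υ ⟨hu1, hu2⟩, ⟨isoMk eg hgp⟩, ⟨isoMk eψ hψ'⟩⟩

variable {X T T' : Scheme.{u}} {f : X ⟶ T} {π : T' ⟶ T}

/-! ### Squares -/

/-- the product square -/
theorem isPullback_prod {E W : Scheme.{u}} {c : E ⟶ W} {e : E ⟶ T'} {w : W ⟶ T} (h : IsPullback c e w π) :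
    ∃ m : pullback e e ⟶ pullback w w,
      IsPullback m (pullback.fst e e ≫ e) (pullback.fst w w ≫ w) π := by
  have hm : (pullback.fst e e ≫ c) ≫ w = (pullback.snd e e ≫ c) ≫ w := by
    rw [Category.assoc, Category.assoc, h.w, pullback.condition_assoc]
  refine ⟨pullback.lift _ _ hm, ?_⟩
  have h1 : IsPullback (pullback.lift _ _ hm) (pullback.fst e e) (pullback.fst w w) c := by
    refine IsPullback.of_right (h₁₂ := pullback.snd w w) (v₁₃ := w) (h₂₂ := w) ?_ (pullback.lift_fst _ _ _)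
      (IsPullback.of_hasPullback w w).flip
    have h2 := (IsPullback.of_hasPullback e e).flip.paste_horiz h
    rw [← h.w] at h2
    rw [pullback.lift_snd]
    exact h2
  exact h1.paste_vert h

/-- the comparison `pr₁^* E → T' ×_T T'` -/
noncomputable def k2 {E : Scheme.{u}} (e : E ⟶ T') (π : T' ⟶ T) : pullback (e ≫ π) π ⟶ pullback π π :=
  pullback.lift (pullback.fst _ _ ≫ e) (pullback.snd _ _) (by rw [Category.assoc, pullback.condition])

theorem k2_fst {E : Scheme.{u}} (e : E ⟶ T') : k2 e π ≫ pullback.fst π π = pullback.fst (e ≫ π) π ≫ e :=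
  pullback.lift_fst _ _ _

theorem k2_snd {E : Scheme.{u}} (e : E ⟶ T') : k2 e π ≫ pullback.snd π π = pullback.snd (e ≫ π) π :=
  pullback.lift_snd _ _ _

theorem isPullback_k2 {E : Scheme.{u}} (e : E ⟶ T') :
    IsPullback (pullback.fst (e ≫ π) π) (k2 e π) e (pullback.fst π π) := by
  refine IsPullback.of_bot (v₂₁ := pullback.snd π π) (v₂₂ := π) (h₃₁ := π) ?_ (k2_fst e).symm
    (IsPullback.of_hasPullback π π)
  rw [k2_snd]
  exact IsPullback.of_hasPullback (e ≫ π) π

/-- the comparison on triple products -/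
noncomputable def k3 {E : Scheme.{u}} (e : E ⟶ T') (π : T' ⟶ T) :
    pullback (pullback.snd (e ≫ π) π ≫ π) π ⟶ pullback (pullback.snd π π ≫ π) π :=
  pullback.lift (pullback.fst _ _ ≫ k2 e π) (pullback.snd _ _) (by
    rw [Category.assoc, ← Category.assoc (k2 e π), k2_snd, pullback.condition])

theorem isPullback_k3 {E : Scheme.{u}} (e : E ⟶ T') :
    IsPullback (pullback.fst (pullback.snd (e ≫ π) π ≫ π) π) (k3 e π) (k2 e π)
      (pullback.fst (pullback.snd π π ≫ π) π) := by
  refine IsPullback.of_bot (v₂₁ := pullback.snd (pullback.snd π π ≫ π) π) (v₂₂ := pullback.snd π π ≫ π) (h₃₁ := π) ?_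
    (pullback.lift_fst _ _ _).symm (IsPullback.of_hasPullback _ π)
  rw [k3, pullback.lift_snd, ← Category.assoc (k2 e π), k2_snd]
  exact IsPullback.of_hasPullback (pullback.snd (e ≫ π) π ≫ π) π

/-- pull-back along `T' → T` and the fibre square of `A ×_T T' → A` -/
theorem isPullback_sq {A A' : Scheme.{u}} {α : A ⟶ T} {u : A' ⟶ A} {v : A' ⟶ T'} (h : IsPullback u v α π) :
    ∃ m : pullback u u ⟶ pullback π π, IsPullback m (pullback.snd u u ≫ u) (pullback.snd π π ≫ π) α := by
  have hm : (pullback.fst u u ≫ v) ≫ π = (pullback.snd u u ≫ v) ≫ π := by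
    rw [Category.assoc, Category.assoc, ← h.w, pullback.condition_assoc]
  refine ⟨pullback.lift _ _ hm, ?_⟩
  have h1 : IsPullback (pullback.lift _ _ hm) (pullback.snd u u) (pullback.snd π π) v := by
    refine IsPullback.of_right (h₁₂ := pullback.fst π π) (v₁₃ := π) (h₂₂ := π) ?_ (pullback.lift_snd _ _ _)
      (IsPullback.of_hasPullback π π)
    have h2 := (IsPullback.of_hasPullback u u).paste_horiz h.flip
    rw [h.w] at h2
    rw [pullback.lift_fst]
    exact h2
  exact h1.paste_vert h.flip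

/-! ### Submersions -/

theorem isQuotientMap [QuasiCompact π] (hπ : Subtr.UnivSSubtrusive π) {A A' : Scheme.{u}} {α : A ⟶ T} {u : A' ⟶ A}
    {v : A' ⟶ T'} (h : IsPullback u v α π) : Topology.IsQuotientMap u :=
  _root_.K834.Subm.univSubmersive_of_univSSubtrusive π hπ v α u h

theorem surjective [QuasiCompact π] (hπ : Subtr.UnivSSubtrusive π) : Surjective π :=
  ⟨(isQuotientMap hπ (IsPullback.of_id_snd (f := π))).surjective⟩

/-! ### Principal covers -/

/-- control of the clopen subsets of principal covers of the double product -/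
def PS (N : ℕ) (f : X ⟶ T) (π : T' ⟶ T) : Prop :=
  ∀ (H : Type) [Group H] [Finite H], Nat.card H ∣ N → ∀ (Q : FEt.Cat (pullback π π)) (τ : H →* Aut Q),
    SGA1t.IsPrincipal H Q τ → CS f (Q.hom ≫ pullback.snd π π ≫ π)

theorem PS.one {N : ℕ} (h : PS N f π) (H : Type) [Group H] [Finite H] (hN : Nat.card H ∣ N) (Q : FEt.Cat T')
    (τ : H →* Aut Q) (hQ : SGA1t.IsPrincipal H Q τ) : CS f (Q.hom ≫ π) := by
  have h1 := h H hN _ _ (Groth.Agent.Pi1.H408.PrincRestrict.isPrincipal_restrict (pullback.fst π π) Q τ hQ)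
  have h2 : (𝟙 Q.left) ≫ Q.hom = (Q.hom ≫ pullback.diagonal π) ≫ pullback.fst π π := by
    rw [Category.assoc, pullback.diagonal_fst, Category.comp_id, Category.id_comp]
  refine h1.of_retract (pullback.lift (f := Q.hom) (g := pullback.fst π π) (𝟙 _) (Q.hom ≫ pullback.diagonal π) h2)
    (pullback.fst Q.hom (pullback.fst π π)) (pullback.lift_fst _ _ _) ?_ ?_
  · refine (pullback.lift_snd_assoc _ _ h2 _).trans ?_
    rw [Category.assoc, pullback.diagonal_snd_assoc]
  · change pullback.fst Q.hom (pullback.fst π π) ≫ Q.hom ≫ π =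
      pullback.snd Q.hom (pullback.fst π π) ≫ pullback.snd π π ≫ π
    rw [← pullback.condition (f := π) (g := π), ← Category.assoc, pullback.condition, Category.assoc]

theorem PS.two {N : ℕ} (h : PS N f π) {G : Type} [Group G] [Finite G] (hN : Nat.card G * Nat.card G ∣ N)
    (E : FEt.Cat T') (ρ : G →* Aut E) (hE : SGA1t.IsPrincipal G E ρ) :
    CS f (pullback.snd (E.hom ≫ π) π ≫ π) ∧
      CS f (pullback.snd E.hom (pullback.snd (E.hom ≫ π) π) ≫ pullback.snd (E.hom ≫ π) π ≫ π) := by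
  let q1 : pullback E.hom (pullback.fst π π) ⟶ pullback π π := pullback.snd _ _
  let q2 : pullback E.hom (pullback.snd π π) ⟶ pullback π π := pullback.snd _ _
  have hQ1 := Groth.Agent.Pi1.H408.PrincRestrict.isPrincipal_restrict (pullback.fst π π) E ρ hE
  have hQ2 := Groth.Agent.Pi1.H408.PrincRestrict.isPrincipal_restrict (pullback.snd π π) E ρ hE
  let i2 : pullback (E.hom ≫ π) π ≅ pullback E.hom (pullback.fst π π) := (isPullback_k2 (π := π) E.hom).isoPullback
  have hi2 : i2.hom ≫ q1 = k2 E.hom π := (isPullback_k2 E.hom).isoPullback_hom_snd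
  constructor
  · refine (h G ((Nat.dvd_mul_right _ _).trans hN) _ _ hQ1).of_iso i2 ?_
    change i2.hom ≫ q1 ≫ pullback.snd π π ≫ π = _
    rw [← Category.assoc, hi2, ← Category.assoc, k2_snd]
  · have h12 := isPrincipal_prod hQ1 hQ2
    have hc : Nat.card (G × G) ∣ N := by rwa [Nat.card_prod]
    have hb : pullback.fst E.hom (pullback.snd (E.hom ≫ π) π) ≫ E.hom =
        (pullback.snd E.hom (pullback.snd (E.hom ≫ π) π) ≫ k2 E.hom π) ≫ pullback.snd π π := by
      rw [Category.assoc, k2_snd, pullback.condition]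
    let b : pullback E.hom (pullback.snd (E.hom ≫ π) π) ⟶ pullback E.hom (pullback.snd π π) :=
      pullback.lift _ _ hb
    have h1 : IsPullback b (pullback.snd E.hom (pullback.snd (E.hom ≫ π) π)) q2 (k2 E.hom π) := by
      refine IsPullback.of_right (h₁₂ := pullback.fst E.hom (pullback.snd π π)) (v₁₃ := E.hom)
        (h₂₂ := pullback.snd π π) ?_ (pullback.lift_snd _ _ _) (IsPullback.of_hasPullback E.hom (pullback.snd π π))
      rw [k2_snd, pullback.lift_fst]
      exact IsPullback.of_hasPullback _ _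
    have h2 : IsPullback (pullback.snd E.hom (pullback.snd (E.hom ≫ π) π) ≫ i2.hom) b q1 q2 := by
      refine h1.flip.of_iso (Iso.refl _) i2 (Iso.refl _) (Iso.refl _) ?_ ?_ ?_ ?_
      · simp
      · simp
      · simp [hi2]
      · simp
    refine (h (G × G) hc _ _ h12).of_iso h2.isoPullback ?_
    change h2.isoPullback.hom ≫ (pullback.fst q1 q2 ≫ q1) ≫ pullback.snd π π ≫ π = _
    rw [← Category.assoc, ← Category.assoc h2.isoPullback.hom, h2.isoPullback_hom_fst, Category.assoc _ i2.hom, hi2,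
      Category.assoc, ← Category.assoc (k2 E.hom π), k2_snd]

/-- full faithfulness for endomorphisms of a cover -/
theorem exists_end (W : FEt.Cat T) (h1 : CI f W.hom) (h2 : CS f (pullback.fst W.hom W.hom ≫ W.hom))
    (φ : (FEt.restrict f).obj W ⟶ (FEt.restrict f).obj W) : ∃ β : W ⟶ W, (FEt.restrict f).map β = φ := by
  have i1 : IsFinite W.hom := W.prop.1
  have i2 : Etale W.hom := W.prop.2
  obtain ⟨a, ha1, ha2⟩ := Groth.Agent.Pi1A.ClopenCrit.exists_of_isClopen f W.hom W.hom h1 h2 φ.left (hom_w φ)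
  refine ⟨MorphismProperty.Over.homMk a ha1, ?_⟩
  apply MorphismProperty.Over.Hom.ext
  apply pullback.hom_ext
  · refine Eq.trans (pullback.lift_fst _ _ _) ?_
    exact ha2
  · refine Eq.trans (pullback.lift_snd _ _ _) ?_
    exact (hom_w φ).symm

/-- **Descent of principal covers coming from the base.** -/
theorem comes_of_desc [QuasiCompact π] (hπ : Subtr.UnivSSubtrusive π) {N : ℕ} (hS : PS N f π)
    (hI : CI f (pullback.snd (pullback.snd π π ≫ π) π ≫ π))
    {X' : Scheme.{u}} {π' : X' ⟶ X} {f' : X' ⟶ T'} (hP : IsPullback π' f' f π)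
    {G : Type} [Group G] [Finite G] (hN : Nat.card G * Nat.card G ∣ N) (P' : FEt.Cat X) (ρ' : G →* Aut P')
    (hP' : SGA1t.IsPrincipal G P' ρ')
    (hc : Comes f' G ((FEt.restrict π').obj P') (((FEt.restrict π').mapAut P').comp ρ')) :
    Comes f G P' ρ' := by
  have sπ := surjective hπ
  -- faithfulness
  have c2 : CI f (pullback.snd π π ≫ π) :=
    hI.of_surjective (pullback.fst (pullback.snd π π ≫ π) π) pullback.condition
  have c1 : CI f π := c2.of_surjective (pullback.snd π π) rfl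
  have c0 : CI f (𝟙 T) := c1.of_surjective π (Category.comp_id _)
  obtain ⟨E, ρE, hE, e0, -⟩ := hc
  have i1 : IsFinite E.hom := E.prop.1
  have i2 : Etale E.hom := E.prop.2
  obtain ⟨s1, s2⟩ := hS.two hN E ρE hE
  have j1 : IsFinite (k2 E.hom π) := MorphismProperty.of_isPullback (P := @IsFinite) (isPullback_k2 E.hom) i1
  have j2 : Etale (k2 E.hom π) := MorphismProperty.of_isPullback (P := @Etale) (isPullback_k2 E.hom) i2
  have j3 : IsFinite (k3 E.hom π) := MorphismProperty.of_isPullback (P := @IsFinite) (isPullback_k3 E.hom) j1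
  have j4 : Etale (k3 E.hom π) := MorphismProperty.of_isPullback (P := @Etale) (isPullback_k3 E.hom) j2
  have cA : CI f (pullback.snd (E.hom ≫ π) π ≫ π) := c2.comp (k2 E.hom π) (by rw [← Category.assoc, k2_snd])
  have cB : CI f (pullback.snd (pullback.snd (E.hom ≫ π) π ≫ π) π ≫ π) := hI.comp (k3 E.hom π) (by
    rw [k3, ← Category.assoc, pullback.lift_snd])
  obtain ⟨W, ⟨eg⟩, ⟨eψ⟩⟩ := exists_cover hP hπ E P' e0 ((c1.comp E.hom rfl).uniq E.hom)
    (exists_ext E.hom _ cA s1 s2) (cB.uniq E.hom)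
  have i3 : IsFinite W.hom := W.prop.1
  have i4 : Etale W.hom := W.prop.2
  -- the square of `W`
  have hψ1 : eψ.hom.left ≫ eψ.inv.left = 𝟙 _ := by
    rw [← MorphismProperty.Comma.comp_left, Iso.hom_inv_id]; rfl
  have hψ2 : eψ.inv.left ≫ eψ.hom.left = 𝟙 _ := by
    rw [← MorphismProperty.Comma.comp_left, Iso.inv_hom_id]; rfl
  let eL : ((FEt.restrict π).obj W).left ≅ E.left := ⟨eψ.hom.left, eψ.inv.left, hψ1, hψ2⟩
  have hcW : IsPullback (eψ.inv.left ≫ proj π W) E.hom W.hom π := by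
    refine (isPullback π W).of_iso eL (Iso.refl _) (Iso.refl _) (Iso.refl _) ?_ ?_ ?_ ?_
    · change proj π W ≫ 𝟙 _ = eψ.hom.left ≫ eψ.inv.left ≫ proj π W
      rw [← Category.assoc, hψ1, Category.id_comp, Category.comp_id]
    · change ((FEt.restrict π).obj W).hom ≫ 𝟙 _ = eψ.hom.left ≫ E.hom
      rw [hom_w, Category.comp_id]
    · simp
    · simp
  obtain ⟨m, hm⟩ := isPullback_prod hcW
  obtain ⟨m2, hm2⟩ := isPullback_sq hm
  have i5 : IsFinite m2 := MorphismProperty.of_isPullback (P := @IsFinite) hm2.flip inferInstance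
  have i6 : Etale m2 := MorphismProperty.of_isPullback (P := @Etale) hm2.flip inferInstance
  have i7 : Surjective m := MorphismProperty.of_isPullback (P := @Surjective) hm.flip sπ
  have t1 : CS f (m ≫ pullback.fst W.hom W.hom ≫ W.hom) := by
    have h1 := hS.one (G × G) (by rwa [Nat.card_prod]) (prodF E E) _ (isPrincipal_prod hE hE)
    rw [hm.w]
    exact h1
  have t2 : CI f (pullback.fst m m ≫ m ≫ pullback.fst W.hom W.hom ≫ W.hom) := by
    refine c2.comp m2 ?_
    rw [hm2.w, Category.assoc]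
    exact (pullback.condition_assoc (f := m) (g := m) _).symm
  have hWW : CS f (pullback.fst W.hom W.hom ≫ W.hom) := CS.desc m (isQuotientMap hπ hm) t1 t2
  have hW : CI f W.hom := c0.comp W.hom (Category.comp_id _)
  -- the action
  choose β hβ using fun g : G => exists_end W hW hWW (eg.hom ≫ (ρ' g).hom ≫ eg.inv)
  obtain ⟨K, hK, hKt⟩ := K557.PrinLoc.exists_bad G W β
  have hKf : ∀ x, f x ∉ K := by
    refine (hKt f).1 ⟨Groth.Agent.Pi1.H383.PrincBC.conjAction eg.symm ρ', fun g => ?_,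
      Groth.Agent.Pi1.H383.PrincBC.isPrincipal_conj G eg.symm ρ' hP'⟩
    rw [Groth.Agent.Pi1.H383.PrincBC.conjAction_hom, hβ]
    rfl
  have hK0 : K = ∅ := c0 K hK (by
    rw [Set.eq_empty_iff_forall_notMem]
    intro z hz
    refine hKf (pullback.snd (𝟙 T) f z) ?_
    have h1 : (pullback.fst (𝟙 T) f ≫ 𝟙 T) z = (pullback.snd (𝟙 T) f ≫ f) z := by rw [pullback.condition]
    rw [Category.comp_id, Scheme.Hom.comp_apply (pullback.snd (𝟙 T) f)] at h1
    rw [← h1]
    exact hz)
  obtain ⟨ρ, hρ, hρP⟩ := (hKt (𝟙 T)).2 (fun x hx => by rw [hK0] at hx; exact hx)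
  refine ⟨_, ρ, hρP, (FEt.restrict f).mapIso ((restrictId T).app W) ≪≫ eg, fun x => ?_⟩
  have n1 : (FEt.restrict (𝟙 T)).map (β x) ≫ (restrictId T).hom.app W = (restrictId T).hom.app W ≫ β x :=
    (restrictId T).hom.naturality (β x)
  rw [hρ]
  change (FEt.restrict f).map ((FEt.restrict (𝟙 T)).map (β x)) ≫ (FEt.restrict f).map ((restrictId T).hom.app W) ≫
    eg.hom = ((FEt.restrict f).map ((restrictId T).hom.app W) ≫ eg.hom) ≫ (ρ' x).hom
  rw [← Category.assoc, ← Functor.map_comp, n1, Functor.map_comp, hβ]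
  simp only [Category.assoc, Iso.inv_hom_id, Category.comp_id]

end K158.DescComes
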