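import Groth.Agent.EtAcyc.K158.DescComes
import Groth.Agent.Pi1.K868.BcDesc
import Groth.Agent.Pi1.K260.EsDef

/-!
# Descent of `ESc` along morphisms of effective descent (S17214, node ES-DESC)

`esc_of_desc`: `f : V ⟶ X`, `g : X ⟶ S`, `q : V1 ⟶ V` quasi-compact and universally S-subtrusive (e.g. proper surjective, or
flat surjective quasi-compact).
-/

set_option autoImplicit false
universe u

open CategoryTheory CategoryTheory.Limits AlgebraicGeometry Opposite IsLocalRing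

namespace K158.EsDesc

open K158.ClCalc K158.DescComes K868.Bc Groth.Agent.Etrest.StrictLoc

/-! ### Closed fibres -/

section Cf

variable {O : Type u} [CommRing O] [IsLocalRing O] {T Ts : Scheme.{u}} {r : T ⟶ Spec (.of O)} {i : Ts ⟶ T}
  {s : Ts ⟶ Spec (.of (ResidueField O))} (sq : IsPullback i s r (resPt O))

include sq

theorem isClosedImmersion_i : IsClosedImmersion i := by
  have h1 : IsClosedImmersion (resPt O) := IsClosedImmersion.spec_of_surjective _ residue_surjective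
  exact MorphismProperty.of_isPullback (P := @IsClosedImmersion) sq.flip h1

theorem range_i : Set.range i = cf r := by
  ext x
  constructor
  · rintro ⟨y, rfl⟩
    change r (i y) = closedPoint O
    rw [← Scheme.Hom.comp_apply, sq.w, Scheme.Hom.comp_apply]
    exact resPt_closedPoint O _
  · intro hx
    obtain ⟨w, hw, -⟩ := exists_pt sq x (closedPoint (ResidueField O))
      ((hx : r x = closedPoint O).trans (resPt_closedPoint O _).symm)
    exact ⟨w, hw⟩

theorem range_fst {A : Scheme.{u}} (α : A ⟶ T) : Set.range (pullback.fst α i) = cf (α ≫ r) := by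
  rw [Scheme.Pullback.range_fst, range_i sq]
  rfl

theorem ci_of_clInj {A : Scheme.{u}} (α : A ⟶ T) (h : ClInj (cf (α ≫ r))) : CI i α := by
  intro E hE he
  refine h E hE ?_
  rw [Set.eq_empty_iff_forall_notMem]
  rintro x ⟨hx, hx'⟩
  rw [← range_fst sq] at hx'
  obtain ⟨y, rfl⟩ := hx'
  have h3 : y ∈ pullback.fst α i ⁻¹' E := hx
  rw [he] at h3
  exact h3

theorem cs_of_clSurj {A : Scheme.{u}} (α : A ⟶ T) (h : ClSurj (cf (α ≫ r))) : CS i α := by
  have hi := isClosedImmersion_i sq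
  let j := pullback.fst α i
  have hj : IsClosedImmersion j := inferInstance
  have hr : Set.range j = cf (α ≫ r) := range_fst sq α
  have hcj : ∀ E : Set ↥(pullback α i), IsClosed E → IsClosed (j '' E) := fun E hE =>
    j.isClosedEmbedding.isClosedMap E hE
  have hinj : Function.Injective j := j.isClosedEmbedding.injective
  intro E' hE'
  have hD : j '' E' ⊆ cf (α ≫ r) := by
    rw [← hr]
    exact Set.image_subset_range _ _
  obtain ⟨C, hC, hCD⟩ := h (j '' E') hD ⟨(hcj _ hE'.1).preimage continuous_subtype_val, by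
    rw [← isClosed_compl_iff]
    have h3 : ((Subtype.val : cf (α ≫ r) → A) ⁻¹' (j '' E'))ᶜ = (Subtype.val : cf (α ≫ r) → A) ⁻¹' (j '' E'ᶜ) := by
      ext ⟨x, hx⟩
      rw [← hr] at hx
      obtain ⟨y, rfl⟩ := hx
      change ¬ (j y ∈ j '' E') ↔ j y ∈ j '' E'ᶜ
      rw [hinj.mem_set_image, hinj.mem_set_image]
      rfl
    rw [h3]
    exact (hcj _ hE'.compl.1).preimage continuous_subtype_val⟩
  refine ⟨C, hC, ?_⟩
  ext y
  change j y ∈ C ↔ y ∈ E'
  have h3 : j y ∈ cf (α ≫ r) := by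
    rw [← hr]
    exact ⟨y, rfl⟩
  rw [← hinj.mem_set_image (s := E'), ← hCD]
  exact ⟨fun h => ⟨h, h3⟩, fun h => h.1⟩

end Cf

/-- pull-back of a square along a second square -/
theorem isPullback_sq2 {T T₁ T₂ A A₁ A₂ : Scheme.{u}} {α : A ⟶ T} {π₁ : T₁ ⟶ T} {π₂ : T₂ ⟶ T} {u₁ : A₁ ⟶ A}
    {v₁ : A₁ ⟶ T₁} {u₂ : A₂ ⟶ A} {v₂ : A₂ ⟶ T₂} (h1 : IsPullback u₁ v₁ α π₁) (h2 : IsPullback u₂ v₂ α π₂) :
    ∃ m : pullback u₁ u₂ ⟶ pullback π₁ π₂, IsPullback m (pullback.snd u₁ u₂ ≫ u₂) (pullback.snd π₁ π₂ ≫ π₂) α := by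
  have hm : (pullback.fst u₁ u₂ ≫ v₁) ≫ π₁ = (pullback.snd u₁ u₂ ≫ v₂) ≫ π₂ := by
    rw [Category.assoc, Category.assoc, ← h1.w, ← h2.w, pullback.condition_assoc]
  refine ⟨pullback.lift _ _ hm, ?_⟩
  have h3 : IsPullback (pullback.lift _ _ hm) (pullback.snd u₁ u₂) (pullback.snd π₁ π₂) v₂ := by
    refine IsPullback.of_right (h₁₂ := pullback.fst π₁ π₂) (v₁₃ := π₁) (h₂₂ := π₂) ?_ (pullback.lift_snd _ _ _)
      (IsPullback.of_hasPullback π₁ π₂)
    have h4 := (IsPullback.of_hasPullback u₁ u₂).paste_horiz h1.flip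
    rw [h2.w] at h4
    rw [pullback.lift_fst]
    exact h4
  exact h3.paste_vert h2.flip

/-! ### The property -/

theorem isSSubtrusive_of_closed {X Y : Scheme.{u}} (f : X ⟶ Y) (h1 : IsClosedMap f) (h2 : Function.Surjective f) :
    Subtr.IsSSubtrusive f := by
  intro y y' h
  obtain ⟨x', rfl⟩ := h2 y'
  have h3 : y ∈ f '' closure {x'} := by
    have h4 : IsClosed (f '' closure {x'}) := h1 _ isClosed_closure
    exact h.mem_closed h4 ⟨x', subset_closure rfl, rfl⟩
  obtain ⟨x, hx, hxy⟩ := h3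
  exact ⟨x, x', specializes_iff_mem_closure.2 hx, hxy, rfl⟩

theorem univSSubtrusive_of_universallyClosed {X Y : Scheme.{u}} (f : X ⟶ Y) [UniversallyClosed f] [Surjective f] :
    Subtr.UnivSSubtrusive f := by
  intro X' Y' i₁ i₂ f' h
  have a1 : UniversallyClosed f' := MorphismProperty.of_isPullback (P := @UniversallyClosed) h.flip inferInstance
  have a2 : Surjective f' := MorphismProperty.of_isPullback (P := @Surjective) h.flip inferInstance
  exact isSSubtrusive_of_closed f' f'.isClosedMap f'.surjective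

theorem univSSubtrusive_of_flat {X Y : Scheme.{u}} (f : X ⟶ Y) [Flat f] [Surjective f] :
    Subtr.UnivSSubtrusive f := by
  intro X' Y' i₁ i₂ f' h
  have a1 : Flat f' := MorphismProperty.of_isPullback (P := @Flat) h.flip inferInstance
  have a2 : Surjective f' := MorphismProperty.of_isPullback (P := @Surjective) h.flip inferInstance
  intro y y' hy
  obtain ⟨x, rfl⟩ := f'.surjective y
  obtain ⟨x', hx', e⟩ := (Flat.generalizingMap f') hy
  exact ⟨x, x', hx', rfl, e⟩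

theorem univSSubtrusive_of_isPullback {X Y X' Y' : Scheme.{u}} {f : X ⟶ Y} {f' : X' ⟶ Y'} {a : X' ⟶ X} {b : Y' ⟶ Y}
    (h : IsPullback f' a b f) (hf : Subtr.UnivSSubtrusive f) : Subtr.UnivSSubtrusive f' := by
  intro X'' Y'' i₁ i₂ f'' h'
  exact hf _ _ f'' (h'.paste_vert h)

/-- `ESc` for a fixed base `t : Spec O ⟶ S`. -/
def EScAt (n : ℕ) {X Y S : Scheme.{u}} (f : X ⟶ Y) (b : Y ⟶ S) (O : Type u) [CommRing O] [IsLocalRing O]
    (t : Spec (CommRingCat.of O) ⟶ S) : Prop :=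
  ∀ (A : Type u) [CommRing A] [IsLocalRing A] ⦃Y₁ : Scheme.{u}⦄ (c : Y₁ ⟶ Y) (b₁ : Y₁ ⟶ Spec (CommRingCat.of O))
    (_ : IsPullback c b₁ b t) (σ : Spec (CommRingCat.of A) ⟶ Y₁) (_ : IsStrictLoc σ)
    (_ : b₁ (σ (closedPoint A)) = closedPoint O)
    ⦃XA : Scheme.{u}⦄ (x : XA ⟶ X) (fA : XA ⟶ Spec (CommRingCat.of A)) (_ : IsPullback x fA f (σ ≫ c))
    ⦃Xs : Scheme.{u}⦄ (i : Xs ⟶ XA) (q : Xs ⟶ Spec (CommRingCat.of (ResidueField O)))
    (_ : IsPullback i q (fA ≫ σ ≫ b₁) (resPt O))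
    (G : Type) [Group G] [Finite G] (_ : Nat.card G ∣ n) (P' : FEt.Cat Xs) (ρ' : G →* Aut P')
    (_ : SGA1t.IsPrincipal G P' ρ'), Comes i G P' ρ'

/-- **Descent of `ESc`**, for a fixed base `t : Spec O ⟶ S`. -/
theorem escAt_of_desc (n : ℕ) {V V1 X S : Scheme.{u}} (f : V ⟶ X) (g : X ⟶ S) (q : V1 ⟶ V) [QuasiCompact q]
    (hq : Subtr.UnivSSubtrusive q) {O : Type u} [CommRing O] [IsLocalRing O] {t : Spec (CommRingCat.of O) ⟶ S}
    (h1 : EScAt n (q ≫ f) g O t) (h2 : FFAt (n * n) (pullback.snd q q ≫ q ≫ f) g O t)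
    (h3 : FaithAt (pullback.snd (pullback.snd q q ≫ q) q ≫ q ≫ f) g O t) : EScAt n f g O t := by
  intro A _ _ Y₁ c b₁ hY σ hσ hb XA x fA hX Xs i q₀ hi G _ _ hG P' ρ' hP'
  let π : pullback x q ⟶ XA := pullback.fst x q
  have hπ1 : IsPullback π (pullback.snd x q) x q := IsPullback.of_hasPullback x q
  have hπ : Subtr.UnivSSubtrusive π := univSSubtrusive_of_isPullback hπ1 hq
  -- double and triple products
  obtain ⟨m2, hm2⟩ := isPullback_sq2 hπ1 hπ1
  obtain ⟨m3, hm3⟩ := isPullback_sq2 hm2.flip hπ1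
  have hX2 : IsPullback m2 (pullback.snd π π ≫ π ≫ fA) (pullback.snd q q ≫ q ≫ f) (σ ≫ c) := by
    have := hm2.paste_vert hX
    simpa only [Category.assoc] using this
  have hX3 : IsPullback m3 (pullback.snd (pullback.snd π π ≫ π) π ≫ π ≫ fA)
      (pullback.snd (pullback.snd q q ≫ q) q ≫ q ≫ f) (σ ≫ c) := by
    have := hm3.paste_vert hX
    simpa only [Category.assoc] using this
  have hS : PS (n * n) i π := by
    intro H _ _ hH Q τ hQ
    refine cs_of_clSurj hi _ ?_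
    have := h2 A c b₁ hY σ hσ hb m2 _ hX2 H hH Q τ hQ
    simpa only [Category.assoc] using this
  have hI : CI i (pullback.snd (pullback.snd π π ≫ π) π ≫ π) := by
    refine ci_of_clInj hi _ ?_
    have := h3 A c b₁ hY σ hσ hb m3 _ hX3
    simpa only [Category.assoc] using this
  have hP := IsPullback.of_hasPullback i π
  refine comes_of_desc hπ hS hI hP (mul_dvd_mul hG hG) P' ρ' hP' ?_
  have hX1 : IsPullback (pullback.snd x q) (π ≫ fA) (q ≫ f) (σ ≫ c) := hπ1.flip.paste_vert hX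
  refine h1 A c b₁ hY σ hσ hb (pullback.snd x q) (π ≫ fA) hX1 (pullback.snd i π) (pullback.fst i π ≫ q₀)
    ?_ G hG _ _ (Groth.Agent.Pi1.H408.PrincRestrict.isPrincipal_restrict _ P' ρ' hP')
  have := hP.flip.paste_vert hi
  simpa only [Category.assoc] using this

theorem isUnit_mul_self {O : Type u} [CommRing O] {n : ℕ} (hn : IsUnit (n : O)) : IsUnit ((n * n : ℕ) : O) := by
  rw [Nat.cast_mul]
  exact hn.mul hn

variable (n : ℕ) {V V1 X S : Scheme.{u}} (f : V ⟶ X) (g : X ⟶ S) (q : V1 ⟶ V)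

/-- **Descent of `ESc`.** -/
theorem esc_of_desc [QuasiCompact q] (hq : Subtr.UnivSSubtrusive q) (h1 : ESc n (q ≫ f) g)
    (h2 : FF (n * n) (pullback.snd q q ≫ q ≫ f) g)
    (h3 : Faith (pullback.snd (pullback.snd q q ≫ q) q ≫ q ≫ f) g) : ESc n f g := by
  intro O A _ _ _ _ hO hOs hn t
  exact escAt_of_desc n f g q hq (O := O) (t := t) (fun A _ _ => h1 O A hO hOs hn t)
    (fun A _ _ => h2 O A hO hOs (isUnit_mul_self hn) t) (fun A _ _ => h3 O A hO hOs t) A

/-- **Descent of `EScN`.** -/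
theorem escN_of_desc [QuasiCompact q] (hq : Subtr.UnivSSubtrusive q) (h1 : K260.Es.EScN n (q ≫ f) g)
    (h2 : FF (n * n) (pullback.snd q q ≫ q ≫ f) g)
    (h3 : Faith (pullback.snd (pullback.snd q q ≫ q) q ≫ q ≫ f) g) : K260.Es.EScN n f g := by
  intro O A _ _ _ _ hO hOs hN hn t
  exact escAt_of_desc n f g q hq (O := O) (t := t) (fun A _ _ => h1 O A hO hOs hN hn t)
    (fun A _ _ => h2 O A hO hOs (isUnit_mul_self hn) t) (fun A _ _ => h3 O A hO hOs t) A

theorem esc_of_proper_cover [IsProper q] [Surjective q] (h1 : ESc n (q ≫ f) g)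
    (h2 : FF (n * n) (pullback.snd q q ≫ q ≫ f) g)
    (h3 : Faith (pullback.snd (pullback.snd q q ≫ q) q ≫ q ≫ f) g) : ESc n f g :=
  esc_of_desc n f g q (univSSubtrusive_of_universallyClosed q) h1 h2 h3

theorem esc_of_etale_cover [Etale q] [QuasiCompact q] [Surjective q] (h1 : ESc n (q ≫ f) g)
    (h2 : FF (n * n) (pullback.snd q q ≫ q ≫ f) g)
    (h3 : Faith (pullback.snd (pullback.snd q q ≫ q) q ≫ q ≫ f) g) : ESc n f g :=
  esc_of_desc n f g q (univSSubtrusive_of_flat q) h1 h2 h3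

theorem escN_of_proper_cover [IsProper q] [Surjective q] (h1 : K260.Es.EScN n (q ≫ f) g)
    (h2 : FF (n * n) (pullback.snd q q ≫ q ≫ f) g)
    (h3 : Faith (pullback.snd (pullback.snd q q ≫ q) q ≫ q ≫ f) g) : K260.Es.EScN n f g :=
  escN_of_desc n f g q (univSSubtrusive_of_universallyClosed q) h1 h2 h3

theorem escN_of_etale_cover [Etale q] [QuasiCompact q] [Surjective q] (h1 : K260.Es.EScN n (q ≫ f) g)
    (h2 : FF (n * n) (pullback.snd q q ≫ q ≫ f) g)
    (h3 : Faith (pullback.snd (pullback.snd q q ≫ q) q ≫ q ≫ f) g) : K260.Es.EScN n f g :=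
  escN_of_desc n f g q (univSSubtrusive_of_flat q) h1 h2 h3

end K158.EsDesc
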