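import Groth.Agent.EtAcyc.K548.FEtDesc

/-!
# Gluing one finite étale cover (after K548.DescE, K548.DescEff)

Same as `K548.DescE.Glue.exists_descent`, but the extension property is only required for the cover `e : E ⟶ T'` which is
glued: `Uniq f α e` (uniqueness of extensions from `A ×_T X` to `A` of `T'`-morphisms to `E`) over `E` and the triple
product, and `Ext f α e y` (existence) over the double product.
-/

set_option autoImplicit false
universe u

open CategoryTheory CategoryTheory.Limits AlgebraicGeometry Opposite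

namespace K158.GlueOne

open K548.DescE

variable {X T T' P E : Scheme.{u}} {f : X ⟶ T} {π : T' ⟶ T} {p : P ⟶ X} {e : E ⟶ T'}
  {c : pullback (e ≫ π) f ⟶ P}

/-- uniqueness of extensions -/
def Uniq {X T A E Y : Scheme.{u}} (f : X ⟶ T) (α : A ⟶ T) (e : E ⟶ Y) : Prop :=
  ∀ t t' : A ⟶ E, t ≫ e = t' ≫ e → pullback.fst α f ≫ t = pullback.fst α f ≫ t' → t = t'

/-- existence of extensions -/
def Ext {X T A E Y : Scheme.{u}} (f : X ⟶ T) (α : A ⟶ T) (e : E ⟶ Y) (y : A ⟶ Y) : Prop :=
  ∀ s : pullback α f ⟶ E, s ≫ e = pullback.fst α f ≫ y → ∃ a : A ⟶ E, a ≫ e = y ∧ pullback.fst α f ≫ a = s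

theorem exists_act (G : Glue f π p e c) [IsFinite e] [Etale e] (H1 : Uniq f (e ≫ π) e)
    (H2 : Ext f (pullback.snd (e ≫ π) π ≫ π) e (pullback.snd (e ≫ π) π))
    (H3 : Uniq f (pullback.snd (pullback.snd (e ≫ π) π ≫ π) π ≫ π) e) :
    ∃ a : pullback (e ≫ π) π ⟶ E, IsAct e π a ∧
      ∀ (W : Scheme.{u}) (u : W ⟶ E) (v : W ⟶ T') (x : W ⟶ X) (h1 : u ≫ e ≫ π = v ≫ π)
        (h2 : v ≫ π = x ≫ f) (h3 : (pullback.lift u v h1 ≫ a) ≫ e ≫ π = x ≫ f),
        cpt c (pullback.lift u v h1 ≫ a) x h3 = cpt c u x (h1.trans h2) := by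
  let α₂ : pullback (e ≫ π) π ⟶ T := pullback.snd (e ≫ π) π ≫ π
  let b : pullback α₂ f ⟶ pullback (e ≫ π) π := pullback.fst _ _
  let x₀ : pullback α₂ f ⟶ X := pullback.snd _ _
  have hb : b ≫ α₂ = x₀ ≫ f := pullback.condition
  have hu₀ : (b ≫ pullback.fst (e ≫ π) π) ≫ e ≫ π = x₀ ≫ f := by
    rw [← hb, Category.assoc, pullback.condition]
  obtain ⟨s, hs1, hs2, hs3⟩ := G.cpt_exists (cpt c _ x₀ hu₀) (b ≫ pullback.snd (e ≫ π) π) x₀
    (G.cpt_hom _ _ _) (by rw [← hb, Category.assoc])
  obtain ⟨a, ha1, ha2⟩ := H2 s hs1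
  -- points
  have key : ∀ (W : Scheme.{u}) (u : W ⟶ E) (v : W ⟶ T') (x : W ⟶ X) (h1 : u ≫ e ≫ π = v ≫ π)
        (h2 : v ≫ π = x ≫ f) (h3 : (pullback.lift u v h1 ≫ a) ≫ e ≫ π = x ≫ f),
        cpt c (pullback.lift u v h1 ≫ a) x h3 = cpt c u x (h1.trans h2) := by
    intro W u v x h1 h2 h3
    let k : W ⟶ pullback α₂ f := pullback.lift (pullback.lift u v h1) x (by
      rw [← Category.assoc, pullback.lift_snd, h2])
    have hk1 : k ≫ b = pullback.lift u v h1 := pullback.lift_fst _ _ _
    have hk2 : k ≫ x₀ = x := pullback.lift_snd _ _ _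
    have e1 : pullback.lift u v h1 ≫ a = k ≫ s := by rw [← hk1, Category.assoc, ← ha2]
    have e2 : k ≫ cpt c s x₀ hs2 = k ≫ cpt c _ x₀ hu₀ := by rw [hs3]
    rw [comp_cpt, comp_cpt] at e2
    rw [cpt_congr e1 hk2.symm h3 (by
        rw [Category.assoc, hs2, Category.assoc]), e2]
    exact cpt_congr (by rw [← Category.assoc, hk1, pullback.lift_fst]) hk2 _ _
  refine ⟨a, ⟨ha1, ?_, ?_⟩, key⟩
  · -- unit
    have hE : pullback.lift (𝟙 E) e (Category.id_comp _) ≫ a = 𝟙 E := by
      refine H1 _ _ ?_ ?_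
      · rw [Category.assoc, ha1, pullback.lift_snd, Category.id_comp]
      · rw [Category.comp_id]
        have e0 : pullback.fst (e ≫ π) f ≫ pullback.lift (𝟙 E) e (Category.id_comp _) =
            pullback.lift (f := e ≫ π) (g := π) (pullback.fst (e ≫ π) f) (pullback.fst (e ≫ π) f ≫ e)
              (Category.assoc _ _ _).symm := by
          apply pullback.hom_ext
          · rw [Category.assoc, pullback.lift_fst, pullback.lift_fst, Category.comp_id]
          · rw [Category.assoc, pullback.lift_snd, pullback.lift_snd]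
        rw [← Category.assoc, e0]
        have e3 : (pullback.lift (f := e ≫ π) (g := π) (pullback.fst (e ≫ π) f)
            (pullback.fst (e ≫ π) f ≫ e) (Category.assoc _ _ _).symm ≫ a) ≫ e =
            pullback.fst (e ≫ π) f ≫ e := by rw [Category.assoc, ha1, pullback.lift_snd]
        have e4 : (pullback.fst (e ≫ π) f ≫ e) ≫ π = pullback.snd (e ≫ π) f ≫ f := by
          rw [Category.assoc, pullback.condition]
        refine G.cpt_inj e3 (pullback.snd _ _) ?_ pullback.condition ?_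
        · rw [← Category.assoc, e3, e4]
        · exact key _ _ _ _ _ e4 _
    intro W u v hv h
    subst hv
    have e0 : pullback.lift (f := e ≫ π) (g := π) u (u ≫ e) h =
        u ≫ pullback.lift (𝟙 E) e (Category.id_comp _) := by
      apply pullback.hom_ext
      · rw [Category.assoc, pullback.lift_fst, pullback.lift_fst, Category.comp_id]
      · rw [Category.assoc, pullback.lift_snd, pullback.lift_snd]
    rw [e0, Category.assoc, hE, Category.comp_id]
  · -- associativity
    let m : pullback α₂ π ⟶ pullback (e ≫ π) π := pullback.fst _ _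
    let v' : pullback α₂ π ⟶ T' := pullback.snd _ _
    have hm : m ≫ α₂ = v' ≫ π := pullback.condition
    have g1 : (m ≫ a) ≫ e ≫ π = v' ≫ π := by
      rw [Category.assoc, ← Category.assoc a, ha1, hm]
    have g2 : (m ≫ pullback.fst (e ≫ π) π) ≫ e ≫ π = v' ≫ π := by
      rw [Category.assoc, pullback.condition, hm]
    have hA : pullback.lift (m ≫ a) v' g1 ≫ a = pullback.lift (m ≫ pullback.fst (e ≫ π) π) v' g2 ≫ a := by
      let q : pullback (v' ≫ π) f ⟶ pullback α₂ π := pullback.fst _ _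
      let x₁ : pullback (v' ≫ π) f ⟶ X := pullback.snd _ _
      have hq : (q ≫ v') ≫ π = x₁ ≫ f := by rw [Category.assoc]; exact pullback.condition
      have hq' : (q ≫ m ≫ pullback.snd (e ≫ π) π) ≫ π = x₁ ≫ f := by
        rw [← hq, Category.assoc, Category.assoc, Category.assoc]
        exact congrArg (fun k => q ≫ k) hm
      have hx : q ≫ pullback.lift (m ≫ a) v' g1 ≫ a =
          q ≫ pullback.lift (m ≫ pullback.fst (e ≫ π) π) v' g2 ≫ a := by
        have c1 : (q ≫ pullback.lift (m ≫ a) v' g1 ≫ a) ≫ e = q ≫ v' := by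
          rw [Category.assoc, Category.assoc, ha1, pullback.lift_snd]
        have c2 : (q ≫ pullback.lift (m ≫ pullback.fst (e ≫ π) π) v' g2 ≫ a) ≫ e = q ≫ v' := by
          rw [Category.assoc, Category.assoc, ha1, pullback.lift_snd]
        have d1 : q ≫ pullback.lift (m ≫ a) v' g1 =
            pullback.lift (q ≫ m ≫ a) (q ≫ v') (by rw [Category.assoc, g1, Category.assoc]) := by
          apply pullback.hom_ext
          · rw [Category.assoc, pullback.lift_fst, pullback.lift_fst]
          · rw [Category.assoc, pullback.lift_snd, pullback.lift_snd]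
        have d2 : q ≫ pullback.lift (m ≫ pullback.fst (e ≫ π) π) v' g2 =
            pullback.lift (q ≫ m ≫ pullback.fst (e ≫ π) π) (q ≫ v')
              (by rw [Category.assoc, g2, Category.assoc]) := by
          apply pullback.hom_ext
          · rw [Category.assoc, pullback.lift_fst, pullback.lift_fst]
          · rw [Category.assoc, pullback.lift_snd, pullback.lift_snd]
        have d3 : q ≫ m = pullback.lift (f := e ≫ π) (g := π) (q ≫ m ≫ pullback.fst (e ≫ π) π)
            (q ≫ m ≫ pullback.snd (e ≫ π) π) (by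
              simp only [Category.assoc]
              rw [pullback.condition]) := by
          apply pullback.hom_ext
          · rw [Category.assoc, pullback.lift_fst]
          · rw [Category.assoc, pullback.lift_snd]
        have k1 : (q ≫ pullback.lift (m ≫ a) v' g1 ≫ a) ≫ e ≫ π = x₁ ≫ f := by
          rw [← Category.assoc, c1, hq]
        have k2 : (q ≫ pullback.lift (m ≫ pullback.fst (e ≫ π) π) v' g2 ≫ a) ≫ e ≫ π = x₁ ≫ f := by
          rw [← Category.assoc, c2, hq]
        refine G.cpt_inj (c1.trans c2.symm) x₁ k1 k2 ?_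
        have k3 : (q ≫ m ≫ a) ≫ e ≫ π = x₁ ≫ f := by
          rw [Category.assoc, g1, ← Category.assoc, hq]
        have k4 : (q ≫ m ≫ pullback.fst (e ≫ π) π) ≫ e ≫ π = x₁ ≫ f := by
          rw [Category.assoc, g2, ← Category.assoc, hq]
        calc cpt c _ x₁ k1 = cpt c (pullback.lift (q ≫ m ≫ a) (q ≫ v') (by
                rw [Category.assoc, g1, Category.assoc]) ≫ a) x₁ (by
                  rw [← d1, Category.assoc q]; exact k1) :=
              cpt_congr (by rw [← d1, Category.assoc]) rfl _ _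
          _ = cpt c (q ≫ m ≫ a) x₁ k3 := key _ _ _ _ _ hq _
          _ = cpt c (pullback.lift (f := e ≫ π) (g := π) (q ≫ m ≫ pullback.fst (e ≫ π) π)
                (q ≫ m ≫ pullback.snd (e ≫ π) π) (by
                  simp only [Category.assoc]
                  rw [pullback.condition]) ≫ a) x₁ (by
                    rw [← d3, Category.assoc q]; exact k3) :=
              cpt_congr (by rw [← d3, Category.assoc]) rfl _ _
          _ = cpt c (q ≫ m ≫ pullback.fst (e ≫ π) π) x₁ k4 := key _ _ _ _ _ hq' _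
          _ = cpt c (pullback.lift (q ≫ m ≫ pullback.fst (e ≫ π) π) (q ≫ v')
                (by rw [Category.assoc, g2, Category.assoc]) ≫ a) x₁ (by
                  rw [← d2, Category.assoc q]; exact k2) := (key _ _ _ _ _ hq _).symm
          _ = cpt c _ x₁ k2 := cpt_congr (by rw [← d2, Category.assoc]) rfl _ _
      exact H3 _ _ (by rw [Category.assoc, Category.assoc, ha1, pullback.lift_snd, pullback.lift_snd]) hx
    intro W u v w h h' h1
    let k : W ⟶ pullback α₂ π := pullback.lift (pullback.lift u v h) w (by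
      rw [← Category.assoc, pullback.lift_snd, h'])
    have hk1 : k ≫ m = pullback.lift u v h := pullback.lift_fst _ _ _
    have hk2 : k ≫ v' = w := pullback.lift_snd _ _ _
    have e1 : pullback.lift (pullback.lift u v h ≫ a) w h1 = k ≫ pullback.lift (m ≫ a) v' g1 := by
      apply pullback.hom_ext
      · rw [Category.assoc, pullback.lift_fst, pullback.lift_fst, ← Category.assoc, hk1]
      · rw [Category.assoc, pullback.lift_snd, pullback.lift_snd, hk2]
    have e2 : pullback.lift u w (h.trans h') =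
        k ≫ pullback.lift (m ≫ pullback.fst (e ≫ π) π) v' g2 := by
      apply pullback.hom_ext
      · rw [Category.assoc, pullback.lift_fst, pullback.lift_fst, ← Category.assoc, hk1,
          pullback.lift_fst]
      · rw [Category.assoc, pullback.lift_snd, pullback.lift_snd, hk2]
    rw [e1, e2, Category.assoc, Category.assoc, hA]

/-- **Gluing**: `P` descends to `T`. -/
theorem exists_descent (G : Glue f π p e c) [IsFinite e] [Etale e] [Etale p]
    (H1 : Uniq f (e ≫ π) e) (H2 : Ext f (pullback.snd (e ≫ π) π ≫ π) e (pullback.snd (e ≫ π) π))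
    (H3 : Uniq f (pullback.snd (pullback.snd (e ≫ π) π ≫ π) π ≫ π) e)
    [QuasiCompact π] (hπ : Subtr.UnivSSubtrusive π) :
    ∃ (U : Scheme.{u}) (υ : U ⟶ T) (_ : IsFinite υ) (_ : Etale υ) (ψ : pullback π υ ⟶ E)
      (_ : IsIso ψ) (g : pullback υ f ⟶ P) (_ : IsIso g), ψ ≫ e = pullback.fst π υ ∧
        g ≫ p = pullback.snd υ f := by
  obtain ⟨a, ha, key⟩ := exists_act G H1 H2 H3
  have hs : SGA1.UnivSubmersive π :=
    _root_.K834.Subm.univSubmersive_of_univSSubtrusive π hπ
  have i1 : QuasiCompact ha.dd.obj.hom := inferInstanceAs (QuasiCompact e)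
  have i2 : IsSeparated ha.dd.obj.hom := inferInstanceAs (IsSeparated e)
  have i3 : Etale ha.dd.obj.hom := inferInstanceAs (Etale e)
  obtain ⟨U, hU1, hU2, hU3, ⟨i⟩⟩ := Groth.Agent.S14774.result π hπ ha.dd
  let υ : U.left ⟶ T := U.hom
  let ψ : pullback π υ ⟶ E := i.hom.hom.left
  have hψ : ψ ≫ e = pullback.fst π υ := Over.w i.hom.hom
  have hψi : IsIso ψ := by
    refine ⟨i.inv.hom.left, ?_, ?_⟩
    · exact congrArg (fun a => a.hom.left) i.hom_inv_id
    · exact congrArg (fun a => a.hom.left) i.inv_hom_id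
  have hfin : IsFinite (pullback.snd υ π) := by
    have h1 : IsFinite (pullback.fst π υ) := by rw [← hψ]; infer_instance
    have h2 : pullback.snd υ π = (pullbackSymmetry υ π).hom ≫ pullback.fst π υ :=
      (pullbackSymmetry_hom_comp_fst υ π).symm
    rw [h2]
    infer_instance
  have hυ : IsFinite υ := Groth.Agent.S14797.result π hs υ
  -- the morphism to `P`
  let mU : pullback υ f ⟶ U.left := pullback.fst υ f
  let xU : pullback υ f ⟶ X := pullback.snd υ f
  let β : pullback υ f ⟶ T := mU ≫ υ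
  have hβ : β = xU ≫ f := pullback.condition
  let r1 : pullback π β ⟶ T' := pullback.fst π β
  let r2 : pullback π β ⟶ pullback υ f := pullback.snd π β
  have hr : r1 ≫ π = r2 ≫ β := pullback.condition
  let w : pullback π β ⟶ pullback π υ := pullback.lift r1 (r2 ≫ mU) (by
    rw [hr, Category.assoc])
  have hw1 : w ≫ pullback.fst π υ = r1 := pullback.lift_fst _ _ _
  have hw2 : w ≫ pullback.snd π υ = r2 ≫ mU := pullback.lift_snd _ _ _
  have hwψ : (w ≫ ψ) ≫ e = r1 := by rw [Category.assoc, hψ, hw1]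
  have hrβ : r2 ≫ β = (r2 ≫ xU) ≫ f :=
    (congrArg (fun k => r2 ≫ k) hβ).trans (Category.assoc _ _ _).symm
  have hv0 : (w ≫ ψ) ≫ e ≫ π = (r2 ≫ xU) ≫ f := by
    rw [← Category.assoc, hwψ, hr, hrβ]
  let v : pullback π β ⟶ P := cpt c (w ≫ ψ) (r2 ≫ xU) hv0
  have hsr : SGA1.UnivSubmersive r2 := MorphismProperty.pullback_snd _ _ hs
  have hcompat : ∀ (L : Type u) [Field L] (y₀ y₁ : Spec (CommRingCat.of L) ⟶ pullback π β),
      y₀ ≫ r2 = y₁ ≫ r2 → y₀ ≫ v = y₁ ≫ v := by
    intro L _ y₀ y₁ hy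
    have hx : (y₀ ≫ r1) ≫ π = (y₁ ≫ r1) ≫ π := by
      rw [Category.assoc, hr, reassoc_of% hy, Category.assoc, hr]
    let V₀ : Desc.Lifts (Over.mk (pullback.fst π υ)) (y₀ ≫ r1) := ⟨y₀ ≫ w, by
      change (y₀ ≫ w) ≫ pullback.fst π υ = y₀ ≫ r1
      rw [Category.assoc, hw1]⟩
    let W₀ : Desc.Lifts (Over.mk e) (y₀ ≫ r1) := ⟨y₀ ≫ w ≫ ψ, by
      change (y₀ ≫ w ≫ ψ) ≫ e = y₀ ≫ r1
      rw [Category.assoc, hwψ]⟩
    have h1 := i.hom.comm (y₀ ≫ r1) (y₁ ≫ r1) hx V₀ W₀ (Category.assoc _ _ _).symm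
    have h2 : (Desc.canMap π (Over.mk υ) (y₀ ≫ r1) (y₁ ≫ r1) hx V₀).1 = y₁ ≫ w := by
      rw [Desc.canMap_val]
      apply pullback.hom_ext
      · rw [pullback.lift_fst]
        change y₁ ≫ r1 = (y₁ ≫ w) ≫ pullback.fst π υ
        rw [Category.assoc, hw1]
      · rw [pullback.lift_snd]
        change (y₀ ≫ w) ≫ pullback.snd π υ = (y₁ ≫ w) ≫ pullback.snd π υ
        rw [Category.assoc, Category.assoc, hw2, reassoc_of% hy]
    have hq : (y₀ ≫ w ≫ ψ) ≫ e ≫ π = (y₁ ≫ r1) ≫ π := by
      rw [← hx, ← Category.assoc]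
      refine congrArg (fun k => k ≫ π) ?_
      rw [← hwψ]
      simp only [Category.assoc]
    have h3 : pullback.lift (y₀ ≫ w ≫ ψ) (y₁ ≫ r1) hq ≫ a = y₁ ≫ w ≫ ψ :=
      h1.trans ((congrArg (· ≫ ψ) h2).trans (Category.assoc _ _ _))
    have h4 : (y₁ ≫ r1) ≫ π = (y₀ ≫ r2 ≫ xU) ≫ f := by
      rw [← hx, Category.assoc, hr, hrβ]
      simp only [Category.assoc]
    have h5 := key _ (y₀ ≫ w ≫ ψ) (y₁ ≫ r1) (y₀ ≫ r2 ≫ xU) hq h4 (by
      rw [h3, ← h4, ← Category.assoc]
      refine congrArg (fun k => k ≫ π) ?_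
      rw [← hwψ]
      simp only [Category.assoc])
    change y₀ ≫ cpt c (w ≫ ψ) (r2 ≫ xU) hv0 = y₁ ≫ cpt c (w ≫ ψ) (r2 ≫ xU) hv0
    rw [comp_cpt, comp_cpt, ← h5]
    exact cpt_congr h3 (by rw [reassoc_of% hy]) _ _
  obtain ⟨g, hg1, hg2⟩ := Groth.Agent.Sga1.EtaleHom.exists_hom_of_compat r2 hsr xU p v
    (G.cpt_hom _ _ _) hcompat
  -- it is an isomorphism
  let f' : pullback π β ⟶ pullback (e ≫ π) f := pullback.lift (w ≫ ψ) (r2 ≫ xU) hv0
  have hf1 : f' ≫ pullback.fst (e ≫ π) f = w ≫ ψ := pullback.lift_fst _ _ _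
  have hf2 : f' ≫ pullback.snd (e ≫ π) f = r2 ≫ xU := pullback.lift_snd _ _ _
  have hinv : inv ψ ≫ pullback.fst π υ = e := by rw [← hψ, IsIso.inv_hom_id_assoc]
  have hk0 : (pullback.fst (e ≫ π) f ≫ inv ψ ≫ pullback.snd π υ) ≫ υ =
      pullback.snd (e ≫ π) f ≫ f := by
    rw [← pullback.condition, Category.assoc, Category.assoc, ← pullback.condition,
      ← Category.assoc (inv ψ), hinv]
  let k1 : pullback (e ≫ π) f ⟶ pullback υ f := pullback.lift _ _ hk0
  have hk11 : k1 ≫ mU = pullback.fst (e ≫ π) f ≫ inv ψ ≫ pullback.snd π υ := pullback.lift_fst _ _ _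
  have hk12 : k1 ≫ xU = pullback.snd (e ≫ π) f := pullback.lift_snd _ _ _
  let k : pullback (e ≫ π) f ⟶ pullback π β := pullback.lift (pullback.fst (e ≫ π) f ≫ e) k1 (by
    rw [hβ, ← Category.assoc k1, hk12, Category.assoc, pullback.condition])
  have hk2 : k ≫ r1 = pullback.fst (e ≫ π) f ≫ e := pullback.lift_fst _ _ _
  have hk3 : k ≫ r2 = k1 := pullback.lift_snd _ _ _
  have hkw : k ≫ w = pullback.fst (e ≫ π) f ≫ inv ψ := by
    apply pullback.hom_ext
    · rw [Category.assoc, hw1, hk2, Category.assoc, hinv]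
    · rw [Category.assoc, hw2, reassoc_of% hk3, hk11, Category.assoc]
  have hf'i : IsIso f' := by
    refine ⟨k, ?_, ?_⟩
    · apply pullback.hom_ext
      · rw [Category.assoc, Category.id_comp]
        change f' ≫ k ≫ r1 = r1
        rw [hk2, ← Category.assoc, hf1, hwψ]
      · rw [Category.assoc, Category.id_comp]
        change f' ≫ k ≫ r2 = r2
        rw [hk3]
        apply pullback.hom_ext
        · rw [Category.assoc]
          change f' ≫ k1 ≫ mU = r2 ≫ mU
          rw [hk11, reassoc_of% hf1, IsIso.hom_inv_id_assoc, hw2]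
        · rw [Category.assoc]
          change f' ≫ k1 ≫ xU = r2 ≫ xU
          rw [hk12, hf2]
    · apply pullback.hom_ext
      · rw [Category.assoc, hf1, ← Category.assoc, hkw, Category.assoc, IsIso.inv_hom_id,
          Category.comp_id, Category.id_comp]
      · rw [Category.assoc, hf2, ← Category.assoc, hk3, hk12, Category.id_comp]
  have hsc : SGA1.UnivSubmersive c := MorphismProperty.of_isPullback G.isPullback.flip hs
  have hgβ : g ≫ p ≫ f = β := by rw [← Category.assoc, hg1, hβ]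
  have hpb : IsPullback r2 f' g c := by
    refine IsPullback.of_bot (h₁₁ := r2) (v₁₁ := f') (v₁₂ := g) (h₂₁ := c)
      (v₂₁ := pullback.fst (e ≫ π) f ≫ e) (v₂₂ := p ≫ f) (h₃₁ := π) ?_ ?_ G.isPullback
    · rw [hgβ]
      have : f' ≫ pullback.fst (e ≫ π) f ≫ e = r1 := by rw [reassoc_of% hf1, ← Category.assoc, hwψ]
      rw [this]
      exact (IsPullback.of_hasPullback π β).flip
    · exact hg2
  have hge : Etale g := by
    have : Etale (g ≫ p) := by rw [hg1]; exact inferInstanceAs (Etale (pullback.snd υ f))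
    exact Etale.of_comp g p
  have hgi : IsIso g := Groth.Agent.Pi1.H390.T1Desc.isIso_of_univSubmersive hpb hsc
  exact ⟨U.left, υ, hυ, hU3, ψ, hψi, g, hgi, hψ, hg1⟩

end K158.GlueOne
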