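import Groth.Agent.EtAcyc.K158.NagCore
import Groth.Agent.Pi1.H408.PrincRestrict

/-!
# From an open subscheme of a proper scheme to its image (S17215, node N1)

`cl`: `j : X ⟶ Xb` quasi-compact and quasi-separated, `g : Xb ⟶ Y` proper, `b : Y ⟶ S`. The claim `Cl n` for
`(j, g ≫ b)` implies the claim for `(j ≫ g, b)`.
-/

set_option autoImplicit false
universe u
open CategoryTheory CategoryTheory.Limits AlgebraicGeometry Opposite IsLocalRing

namespace K158.Nag

open Groth.Agent Groth.Agent.Etrest.StrictLoc Groth.Agent.Sga1.UlaSL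
open K157.ClDef K158.NagCore

/-- isomorphisms of the target -/
theorem cBij_of_iso_right {T' T T₁ : Scheme.{u}} {g : T' ⟶ T} (h : CBij g) (e : T ≅ T₁) : CBij (g ≫ e.hom) := by
  constructor
  · intro E hE h1
    have h2 := h.1 (e.hom ⁻¹' E) (hE.preimage e.hom.continuous) h1
    apply (Scheme.homeoOfIso e).surjective.preimage_injective
    rw [Set.preimage_empty]
    exact h2
  · intro E' hE'
    obtain ⟨E, hE, h1⟩ := h.2 E' hE'
    refine ⟨e.inv ⁻¹' E, hE.preimage e.inv.continuous, ?_⟩
    rw [← h1]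
    ext x
    change e.inv (e.hom (g x)) ∈ E ↔ g x ∈ E
    rw [← Scheme.Hom.comp_apply e.hom, e.hom_inv_id]
    rfl

/-- invariance of the claim on a closed fibre under isomorphisms -/
theorem cBij_fst_of_iso {T T₁ V R : Scheme.{u}} (a : T ⟶ V) (a₁ : T₁ ⟶ V) (r : R ⟶ V) (e : T ≅ T₁)
    (he : e.hom ≫ a₁ = a) (h : CBij (pullback.fst a r)) : CBij (pullback.fst a₁ r) := by
  have h1 : IsPullback (pullback.fst a r ≫ e.hom) (pullback.snd a r) a₁ r := by
    refine (IsPullback.of_hasPullback a r).of_iso (Iso.refl _) e (Iso.refl _) (Iso.refl _) ?_ ?_ ?_ ?_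
    · simp
    · simp
    · simp [he]
    · simp
  refine cBij_of_iso h1.isoPullback.symm ?_ (cBij_of_iso_right h e)
  simp

theorem isLocalHom_of_closedPoint {A D : Type u} [CommRing A] [IsLocalRing A] [CommRing D] [IsLocalRing D]
    (β : A →+* D) (h : spm β (closedPoint D) = closedPoint A) : IsLocalHom β :=
  (isLocalHom_iff_comap_closedPoint β).2 h

/-- **Node N1.** -/
theorem cl {n : ℕ} {X Xb Y S : Scheme.{u}} (j : X ⟶ Xb) [QuasiCompact j] [QuasiSeparated j] (g : Xb ⟶ Y)
    [IsProper g] (b : Y ⟶ S) (h : Cl n j (g ≫ b)) : Cl n (j ≫ g) b := by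
  intro A _ _ hA hAs hn t B _ _ σ hσ β hβ hσβ G _ _ hG T ρ hρ
  have hB := hσ.henselian
  have hBs := hσ.sepClosed
  set q : Spec (.of B) ⟶ Y := σ ≫ pullback.fst b t with hq
  let p : pullback g q ⟶ Spec (.of B) := pullback.snd g q
  let π₀ : pullback (j ≫ g) q ⟶ pullback g q :=
    pullback.lift (pullback.fst _ _ ≫ j) (pullback.snd _ _) (by rw [Category.assoc]; exact pullback.condition)
  have hπ₀ : IsPullback π₀ (pullback.fst (j ≫ g) q) (pullback.fst g q) j := by
    refine IsPullback.flip (IsPullback.of_bot ?_ (pullback.lift_fst _ _ _).symm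
      (IsPullback.of_hasPullback g q))
    rw [pullback.lift_snd]
    exact IsPullback.of_hasPullback (j ≫ g) q
  have i1 : QuasiCompact π₀ := MorphismProperty.of_isPullback (P := @QuasiCompact) hπ₀.flip inferInstance
  have i2 : QuasiSeparated π₀ := MorphismProperty.of_isPullback (P := @QuasiSeparated) hπ₀.flip inferInstance
  have i3 : IsFinite T.hom := T.prop.1
  let π : T.left ⟶ pullback g q := T.hom ≫ π₀
  have e1 : π ≫ p ≫ spm β = T.hom ≫ pullback.snd (j ≫ g) q ≫ spm β := by
    rw [← Category.assoc, Category.assoc T.hom, pullback.lift_snd, Category.assoc]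
  refine cBij_fst_of_iso (π ≫ p ≫ spm β) _ _ (Iso.refl _) ((Category.id_comp _).trans e1.symm) (core β p π ?_)
  intro D _ _ τ hτ hc
  -- the strict localization of `Xb ×_S Spec A`
  have hw : pullback.fst g q ≫ g ≫ b = (p ≫ spm β) ≫ t := by
    have h1 : q ≫ b = spm β ≫ t := by
      rw [hq, Category.assoc, pullback.condition, ← Category.assoc, hσβ]
    rw [← Category.assoc, pullback.condition, Category.assoc, h1]
    exact (Category.assoc _ _ _).symm
  let w : pullback g q ⟶ pullback (g ≫ b) t := pullback.lift (pullback.fst g q) (p ≫ spm β) hw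
  have i4 : WeaklyEtale w := by
    have i := weaklyEtale_of_isStrictLoc hσ
    let w₀ : pullback (g ≫ b) t ⟶ pullback b t :=
      pullback.lift (pullback.fst _ _ ≫ g) (pullback.snd _ _) (by rw [Category.assoc]; exact pullback.condition)
    have h1 : IsPullback w₀ (pullback.fst (g ≫ b) t) (pullback.fst b t) g := by
      refine IsPullback.flip (IsPullback.of_bot ?_ (pullback.lift_fst _ _ _).symm
        (IsPullback.of_hasPullback b t))
      rw [pullback.lift_snd]
      exact IsPullback.of_hasPullback (g ≫ b) t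
    have h2 : IsPullback w p w₀ σ := by
      refine IsPullback.of_right (h₁₂ := pullback.fst (g ≫ b) t) (h₂₂ := pullback.fst b t) ?_ ?_ h1.flip
      · rw [pullback.lift_fst]
        exact IsPullback.of_hasPullback g q
      · apply pullback.hom_ext
        · rw [Category.assoc, Category.assoc, pullback.lift_fst, pullback.lift_fst_assoc]
          exact pullback.condition
        · rw [Category.assoc, Category.assoc, pullback.lift_snd, pullback.lift_snd, hσβ]
    exact MorphismProperty.of_isPullback (P := @WeaklyEtale) h2.flip i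
  have hσ' : IsStrictLoc (τ ≫ w) := hτ.comp w
  let β' : A →+* D := (Spec.preimage (τ ≫ p ≫ spm β)).hom
  have hβ' : spm β' = τ ≫ p ≫ spm β := Spec.map_preimage _
  have i5 : IsLocalHom β' := isLocalHom_of_closedPoint β' (by rw [hβ']; exact hc)
  have e2 : (τ ≫ w) ≫ pullback.snd (g ≫ b) t = spm β' := by
    rw [Category.assoc, pullback.lift_snd, hβ']
  have e3 : (τ ≫ w) ≫ pullback.fst (g ≫ b) t = τ ≫ pullback.fst g q := by
    rw [Category.assoc, pullback.lift_fst]
  have hm : pullback.fst j ((τ ≫ w) ≫ pullback.fst (g ≫ b) t) ≫ j ≫ g =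
      (pullback.snd j ((τ ≫ w) ≫ pullback.fst (g ≫ b) t) ≫ τ ≫ p) ≫ q := by
    rw [← Category.assoc, pullback.condition, e3, Category.assoc, Category.assoc, pullback.condition]
    simp only [Category.assoc]
    rfl
  let m : pullback j ((τ ≫ w) ≫ pullback.fst (g ≫ b) t) ⟶ pullback (j ≫ g) q :=
    pullback.lift (pullback.fst _ _) (pullback.snd _ _ ≫ τ ≫ p) hm
  have hmπ : IsPullback m (pullback.snd j ((τ ≫ w) ≫ pullback.fst (g ≫ b) t)) π₀ τ := by
    refine IsPullback.of_right (h₁₂ := pullback.fst (j ≫ g) q) (h₂₂ := pullback.fst g q) ?_ ?_ hπ₀.flip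
    · rw [pullback.lift_fst]
      exact IsPullback.of_iso (IsPullback.of_hasPullback j ((τ ≫ w) ≫ pullback.fst (g ≫ b) t)) (Iso.refl _)
        (Iso.refl _) (Iso.refl _) (Iso.refl _) (by simp) (by simp) (by simp) (by simp [e3])
    · apply pullback.hom_ext
      · have h1 : π₀ ≫ pullback.fst g q = pullback.fst (j ≫ g) q ≫ j := pullback.lift_fst _ _ _
        have h2 : m ≫ pullback.fst (j ≫ g) q = pullback.fst j _ := pullback.lift_fst _ _ _
        rw [Category.assoc m, h1, ← Category.assoc m, h2, pullback.condition]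
        refine Eq.trans ?_ (Category.assoc _ _ _).symm
        exact congrArg (pullback.snd j ((τ ≫ w) ≫ pullback.fst (g ≫ b) t) ≫ ·) e3
      · have h1 : π₀ ≫ pullback.snd g q = pullback.snd (j ≫ g) q := pullback.lift_snd _ _ _
        have h2 : m ≫ pullback.snd (j ≫ g) q = pullback.snd j _ ≫ τ ≫ p := pullback.lift_snd _ _ _
        rw [Category.assoc m, h1, h2]
        exact (Category.assoc _ _ _).symm
  have hT := h A hA hAs hn t D (τ ≫ w) hσ' β' i5 e2 G hG ((FEt.restrict m).obj T)
    (((FEt.restrict m).mapAut T).comp ρ) (Pi1.H408.PrincRestrict.isPrincipal_restrict m T ρ hρ)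
  have hP : IsPullback (pullback.fst T.hom m)
      (pullback.snd T.hom m ≫ pullback.snd j ((τ ≫ w) ≫ pullback.fst (g ≫ b) t)) π τ := by
    exact ((IsPullback.of_hasPullback T.hom m).flip.paste_horiz hmπ.flip).flip
  refine cBij_fst_of_iso _ _ _ hP.isoPullback ?_ hT
  rw [← hβ', ← Category.assoc, hP.isoPullback_hom_snd]
  exact Category.assoc _ _ _

end K158.Nag
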