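import Groth.Agent.EtAcyc.K158.ConstOne
import Groth.Agent.EtAcyc.K548.StrictPts
import Groth.Agent.S3464
import Groth.Agent.S0505

/-!
# Clopen subsets of covers of open subschemes of proper schemes

`core`: `Z` proper over a strictly henselian `Spec B`, `A → B` local, `π : T ⟶ Z` quasi-compact and quasi-separated. If
for every strict localization `Spec D` of `Z` over the closed point of `Spec A` the clopen subsets of `T ×_Z Spec D` are
those of its fibre over the closed point of `Spec A`, then the same holds for `T`.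
-/

set_option autoImplicit false
set_option backward.isDefEq.respectTransparency.types false
universe u
open CategoryTheory CategoryTheory.Limits AlgebraicGeometry Opposite IsLocalRing

namespace K158.NagCore

open Groth.Agent EtDesc Groth.Agent.Sga4A.EtStalk Groth.Agent.Etrest.StrictLoc Groth.Agent.Sga1.UlaSL
open Groth.Agent.EtpbcB.StrictLoc Groth.Agent.EtpbcB.Psi Groth.Agent.EtpbcB.BCStrict
open K3.BCStrictSec (SB)
open K158.BCOne K158.ConstOne K157.ClDef

section Gen

variable {V X₀ X₂ Y₂ : Scheme.{u}} (h : Y₂ ⟶ V) (g₀ : X₀ ⟶ V) (h' : X₂ ⟶ X₀) (g₂ : X₂ ⟶ Y₂)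

/-- Bijectivity on global sections through an isomorphism of base change. -/
theorem bijective_of_isIso (sq : IsPullback g₂ h' h g₀) (F : Sh Y₂)
    (hiso : IsIso (EtBC.baseChange0Sh h g₀ h' g₂ sq.w F))
    (hb : Function.Bijective (secPull g₀ ((pushSh h).obj F))) :
    Function.Bijective (secPull g₂ F) := by
  have h1 : Function.Bijective ((EtBC.baseChange0Sh h g₀ h' g₂ sq.w F).hom.app
      (op (EtCoh.top X₀))) := by
    have : IsIso ((sheafToPresheaf _ _).map (EtBC.baseChange0Sh h g₀ h' g₂ sq.w F)) := inferInstance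
    have : IsIso (EtBC.baseChange0Sh h g₀ h' g₂ sq.w F).hom := this
    have : IsIso ((EtBC.baseChange0Sh h g₀ h' g₂ sq.w F).hom.app (op (EtCoh.top X₀))) :=
      inferInstance
    exact (isIso_iff_bijective _).1 this
  have h2 := Etbc.H230.Forth.map_bijective F (EtCore.bcTopIso h)
  have h3 := Etbc.H230.Forth.map_bijective ((pullSh g₂).obj F) (EtCore.bcTopIso h')
  have key : (((pullSh g₂).obj F).obj.map (EtCore.bcTopIso h').hom.op) ∘ (secPull g₂ F) =
      (((EtBC.baseChange0Sh h g₀ h' g₂ sq.w F).hom.app (op (EtCoh.top X₀))) ∘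
        (secPull g₀ ((pushSh h).obj F)) ∘ (F.obj.map (EtCore.bcTopIso h).hom.op)) := by
    funext s
    exact (Groth.Agent.Etbc.H235.BCSec.baseChange0Sh_secPull h g₀ h' g₂ sq.w F s).symm
  rw [← Function.Bijective.of_comp_iff' h3, key]
  exact h1.comp (hb.comp h2)

end Gen

/-- Sections over a proper scheme and over its restriction to a strictly henselian local subscheme. -/
theorem sb_of_isProper {B B' : Type u} [CommRing B] [CommRing B'] [HenselianLocalRing B]
    [IsSepClosed (ResidueField B)] [HenselianLocalRing B'] [IsSepClosed (ResidueField B')]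
    (ψ : B →+* B') [IsLocalHom ψ] {Z Z' : Scheme.{u}} {p : Z ⟶ Spec (.of B)} [IsProper p] {i : Z' ⟶ Z}
    {p' : Z' ⟶ Spec (.of B')} (sq : IsPullback i p' p (spm ψ)) : SB i := fun F =>
  bijective_of_isIso p (spm ψ) p' i sq F (Groth.Agent.S3464.result p (spm ψ) p' i sq F)
    (K3.StrictSec.sb_of_isLocalHom ψ _)

theorem SB.of_iso {Z Z₁ Z' : Scheme.{u}} {i : Z' ⟶ Z} (h : SB i) (e : Z₁ ≅ Z') : SB (e.hom ≫ i) := by
  have h1 : IsPullback (e.hom ≫ i) e.hom (𝟙 Z) i :=
    IsPullback.of_vert_isIso ⟨by rw [Category.comp_id]⟩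
  intro F
  refine bijective_of_isIso (𝟙 Z) i e.hom (e.hom ≫ i) h1 F ?_ (h _)
  exact Groth.Agent.S3464.result (𝟙 Z) i e.hom (e.hom ≫ i) h1 F

/-- The closed fibre over a local subring. -/
theorem sb_closedFibre {A B : Type u} [CommRing A] [IsLocalRing A] [CommRing B] [HenselianLocalRing B]
    [IsSepClosed (ResidueField B)] (β : A →+* B) [IsLocalHom β] {Z Z' : Scheme.{u}} {p : Z ⟶ Spec (.of B)}
    [IsProper p] {i : Z' ⟶ Z} {s : Z' ⟶ Spec (.of (ResidueField A))}
    (sq : IsPullback i s (p ≫ spm β) (resPt A)) : SB i := by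
  have hcl : IsClosedImmersion (resPt A) := IsClosedImmersion.spec_of_surjective _ residue_surjective
  have hc : IsClosedImmersion (pullback.fst (spm β) (resPt A)) := inferInstance
  obtain ⟨I, e, he⟩ := IsClosedImmersion.Spec_iff.1 hc
  have hI : I ≠ ⊤ := by
    rintro rfl
    have h1 : IsEmpty (Spec (CommRingCat.of (B ⧸ (⊤ : Ideal B)))) := by
      have : Subsingleton (B ⧸ (⊤ : Ideal B)) := inferInstance
      exact inferInstanceAs (IsEmpty (PrimeSpectrum (B ⧸ (⊤ : Ideal B))))
    obtain ⟨w, -, -⟩ := Scheme.Pullback.exists_preimage_pullback (f := spm β) (g := resPt A)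
      (closedPoint B) (closedPoint (ResidueField A))
      ((closedPoint_map β).trans (resPt_closedPoint A _).symm)
    exact h1.false (e.hom w)
  have hnt : Nontrivial (B ⧸ I) := Ideal.Quotient.nontrivial_iff.2 hI
  have hloc : IsLocalRing (B ⧸ I) := IsLocalRing.of_surjective' (Ideal.Quotient.mk I) Ideal.Quotient.mk_surjective
  have hh : HenselianLocalRing (B ⧸ I) := Groth.Agent.S0505.result B (B ⧸ I)
  have hlh : IsLocalHom (Ideal.Quotient.mk I) := Ideal.Quotient.mk_surjective.isLocalHom _
  have hsc : IsSepClosed (ResidueField (B ⧸ I)) := by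
    let e : ResidueField B →+* ResidueField (B ⧸ I) := ResidueField.map (Ideal.Quotient.mk I)
    have he : Function.Bijective e := by
      refine ⟨e.injective, fun x => ?_⟩
      obtain ⟨y, rfl⟩ := residue_surjective x
      obtain ⟨z, rfl⟩ := Ideal.Quotient.mk_surjective y
      exact ⟨residue B z, rfl⟩
    exact Groth.Agent.Hensel.Exist.isSepClosed_of_ringEquiv (RingEquiv.ofBijective e he).symm
  -- the two squares
  let t : Z' ⟶ pullback (spm β) (resPt A) := pullback.lift (i ≫ p) s (by rw [Category.assoc]; exact sq.w)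
  have h1 : IsPullback i t p (pullback.fst (spm β) (resPt A)) := by
    refine IsPullback.flip (IsPullback.of_right (h₁₂ := pullback.snd (spm β) (resPt A)) ?_
      (pullback.lift_fst _ _ _) (IsPullback.of_hasPullback (spm β) (resPt A)).flip)
    rw [pullback.lift_snd]
    exact sq.flip
  have h2 : IsPullback i (t ≫ e.hom) p (spm (Ideal.Quotient.mk I)) := by
    refine h1.of_iso (Iso.refl _) (Iso.refl _) e (Iso.refl _) ?_ ?_ ?_ ?_
    · simp
    · simp
    · simp
    · simp [he]
  exact sb_of_isProper (Ideal.Quotient.mk I) h2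

/-- The strict localizations of a subscheme are base changes. -/
theorem isPullback_psi {Z Z' : Scheme.{u}} (i : Z' ⟶ Z) [IsImmersion i] {Ω : Type u} [Field Ω] [IsSepClosed Ω]
    (ξ : Spec (CommRingCat.of Ω) ⟶ Z') : IsPullback (psi i ξ) (toBase ξ) (toBase (ξ ≫ i)) i := by
  have hs := Groth.Agent.EtpbcB.OshHens.isStrictLoc_toBase (ξ ≫ i)
  have hs' := Groth.Agent.EtpbcB.OshHens.isStrictLoc_toBase ξ
  have hcl : ∀ {W : Scheme.{u}} (η : Spec (CommRingCat.of Ω) ⟶ W), toBase η (closedPoint (Osh η)) = η default := by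
    intro W η
    rw [← pt_default η, ← Scheme.Hom.comp_apply, pt_toBase]
  obtain ⟨D, _, _, σ', α, hσ', hα, hpb⟩ := K548.StrictPts.exists_immersion i hs
    ⟨ξ default, by rw [hcl]; rfl⟩
  let k : Spec (Osh ξ) ⟶ Spec (CommRingCat.of D) := hpb.lift (toBase ξ) (psi i ξ) (psi_toBase i ξ).symm
  have hk1 : k ≫ σ' = toBase ξ := hpb.lift_fst _ _ _
  have hk2 : k ≫ spm α = psi i ξ := hpb.lift_snd _ _ _
  have hk : IsIso k := by
    let g : D →+* Osh ξ := (Spec.preimage k).hom
    have hg : spm g = k := Spec.map_preimage k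
    have hgα : g.comp α = psiHom i ξ := by
      rw [← spm_inj, spm_comp, hg, hk2]
      exact (spm_psiHom i ξ).symm
    have hl : IsLocalHom g := by
      have h1 := isLocalHom_psiHom i ξ
      have hinj : Function.Injective (spm α) := by
        have h2 : IsImmersion (spm α) := MorphismProperty.of_isPullback (P := @IsImmersion) hpb inferInstance
        exact (spm α).isEmbedding.injective
      have h3 : psi i ξ (closedPoint (Osh ξ)) = closedPoint (Osh (ξ ≫ i)) := by
        rw [← spm_psiHom]
        exact closedPoint_map (psiHom i ξ)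
      have h4 : spm g (closedPoint (Osh ξ)) = closedPoint D := by
        apply hinj
        rw [closedPoint_map α, hg, ← Scheme.Hom.comp_apply, hk2, h3]
      exact (isLocalHom_iff_comap_closedPoint g).2 h4
    have hb := hσ'.bijective hs' g (by rw [hg, hk1])
    rw [← hg]
    exact isIso_spm g hb
  refine IsPullback.flip (hpb.of_iso (asIso k).symm (Iso.refl _) (Iso.refl _) (Iso.refl _) ?_ ?_ ?_ ?_)
  · simp [← hk1]
  · simp [← hk2]
  · simp
  · simp

theorem toBase_closedPoint {W : Scheme.{u}} {Ω : Type u} [Field Ω] [IsSepClosed Ω]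
    (η : Spec (CommRingCat.of Ω) ⟶ W) {A : Type u} [CommRing A] [IsLocalRing A] (q : W ⟶ Spec (CommRingCat.of A))
    (h : q (η default) = closedPoint A) : (toBase η ≫ q) (closedPoint (Osh η)) = closedPoint A := by
  have hcl : toBase η (closedPoint (Osh η)) = η default := by
    rw [← pt_default η, ← Scheme.Hom.comp_apply, pt_toBase]
  rw [← h, ← hcl]
  rfl

section Core

variable {A B : Type u} [CommRing A] [IsLocalRing A] [CommRing B] [HenselianLocalRing B]
  [IsSepClosed (ResidueField B)] (β : A →+* B) [IsLocalHom β] {Z T : Scheme.{u}} (p : Z ⟶ Spec (.of B))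
  [IsProper p] (π : T ⟶ Z) [QuasiCompact π] [QuasiSeparated π]

/-- transport along isomorphisms -/
theorem cBij_of_iso {T' T₁ T : Scheme.{u}} {g : T' ⟶ T} {g₁ : T₁ ⟶ T} (e : T₁ ≅ T') (he : e.hom ≫ g = g₁)
    (h : CBij g) : CBij g₁ := by
  subst he
  constructor
  · intro E hE h1
    apply h.1 E hE
    apply (Scheme.homeoOfIso e).surjective.preimage_injective
    rw [Set.preimage_empty]
    exact h1
  · intro E' hE'
    obtain ⟨E, hE, h1⟩ := h.2 (e.inv ⁻¹' E') (hE'.preimage e.inv.continuous)
    refine ⟨E, hE, ?_⟩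
    have h2 : (e.hom ≫ g) ⁻¹' E = e.hom ⁻¹' (g ⁻¹' E) := rfl
    rw [h2, h1]
    ext x
    change e.inv (e.hom x) ∈ E' ↔ x ∈ E'
    rw [← Scheme.Hom.comp_apply, e.hom_inv_id]
    rfl

/-- Locally constant functions on a cover of an open part of a proper scheme. -/
theorem core (hloc : ∀ (D : Type u) [CommRing D] [IsLocalRing D] (σ : Spec (CommRingCat.of D) ⟶ Z), IsStrictLoc σ →
      (σ ≫ p ≫ spm β) (closedPoint D) = closedPoint A →
      CBij (pullback.fst (pullback.snd π σ ≫ σ ≫ p ≫ spm β) (resPt A))) :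
    CBij (pullback.fst (π ≫ p ≫ spm β) (resPt A)) := by
  -- the closed fibres
  let i : pullback (p ≫ spm β) (resPt A) ⟶ Z := pullback.fst _ _
  let s : pullback (p ≫ spm β) (resPt A) ⟶ Spec (.of (ResidueField A)) := pullback.snd _ _
  have hcl : IsClosedImmersion (resPt A) := IsClosedImmersion.spec_of_surjective _ residue_surjective
  have hi : IsClosedImmersion i := inferInstance
  have sq : IsPullback i s (p ≫ spm β) (resPt A) := IsPullback.of_hasPullback _ _
  let iT : pullback (π ≫ p ≫ spm β) (resPt A) ⟶ T := pullback.fst _ _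
  let πs : pullback (π ≫ p ≫ spm β) (resPt A) ⟶ pullback (p ≫ spm β) (resPt A) :=
    pullback.lift (iT ≫ π) (pullback.snd _ _) (by rw [Category.assoc]; exact pullback.condition)
  have H : IsPullback iT πs π i := by
    refine IsPullback.flip (IsPullback.of_right (h₁₂ := s) ?_ (pullback.lift_fst _ _ _) sq.flip)
    rw [pullback.lift_snd]
    exact (IsPullback.of_hasPullback (π ≫ p ≫ spm β) (resPt A)).flip
  rw [cBij_iff]
  apply (Groth.Agent.Etbc.H230.ConstSets.secPull_bijective_iff _).1
  refine bijective_of_isIso π i πs iT H _ ?_ (sb_closedFibre β sq _)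
  refine isIso_baseChange0Sh_of_sbf H _ fun Ω _ _ ξ => sbf_const _ _ ?_
  rw [← cBij_iff]
  have hσ := Groth.Agent.EtpbcB.OshHens.isStrictLoc_toBase (ξ ≫ i)
  have h0 : (p ≫ spm β) ((ξ ≫ i) default) = closedPoint A := by
    rw [← Scheme.Hom.comp_apply, Category.assoc, sq.w]
    exact resPt_closedPoint A _
  have hl : IsLocalRing (Osh (ξ ≫ i)) := inferInstance
  have h1 := @hloc (Osh (ξ ≫ i)) _ hl (toBase (ξ ≫ i)) hσ (toBase_closedPoint _ _ h0)
  have h2 := ((isPullback_P ξ H).paste_horiz (isPullback_psi i ξ).flip).paste_horiz sq.flip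
  rw [Category.assoc (pullback.snd π (toBase (ξ ≫ i)))] at h2
  exact cBij_of_iso h2.flip.isoPullback h2.flip.isoPullback_hom_fst h1

end Core

end K158.NagCore
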